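import Cfsg.Agent.Lib.Forms.Max.UnitFrame.Six.Main
import Cfsg.Agent.Lib.Forms.Max.UnitFrame.Finish

/-!
# Six frame vectors over prime fields

A member with four non-zero coordinates gives one with at most three unless the field has three elements, so a
subgroup containing the monomial isometries of Omega and a non-monomial one contains Omega.
-/

set_option autoImplicit false
set_option linter.unusedSectionVars false
set_option linter.unusedSimpArgs false

namespace Cfsg.Agent.Forms.Max.UnitFrame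

open Matrix Cfsg.Agent.Forms.QuadStd Cfsg.Agent.Forms.Reflections Cfsg.Agent.Classical.Orth

variable {F : Type*} [Field F] [Fintype F] {ι : Type} [Fintype ι] [DecidableEq ι] {n : ℕ}
variable {Q : QuadraticForm F (ι → F)} {S : Setup Q n}

set_option quotPrecheck false in
local notation "Iso" => Cfsg.isometryGroup F ⇑Q

namespace Setup

/-- members with four non-zero coordinates but none with three only occur over three elements -/
theorem three_of_four_six (hn : n = 6) (hp : (Fintype.card F).Prime) (hs : S.Small 3) {x : Fin n → F}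
    (hx : S.R0 x) (hc : (supp x).card = 4) :
    Fintype.card F = 3 ∧ ∀ y : Fin n → F, dot y y = 1 → (supp y).card = 4 → S.R0 y := by
  classical
  subst hn
  set p := Fintype.card F with hpdef
  have : Fact p.Prime := ⟨hp⟩
  have : CharP F p := charP_of_card_eq_prime hpdef.symm
  have hp0 : (p : F) = 0 := CharP.cast_eq_zero F p
  by_cases h3 : p = 3
  · refine ⟨h3, fun y _ hyc => half_four hs (by omega) hx hc hyc fun i hi => ?_⟩
    have := FiniteField.pow_card_sub_one_eq_one (y i) (mem_supp.1 hi)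
    rw [← hpdef, h3, show 3 - 1 = 2 from rfl, pow_two] at this
    have h0 : ((3 : ℕ) : F) = 0 := h3 ▸ hp0
    rw [Nat.cast_ofNat] at h0
    linear_combination 4 * this + h0
  exfalso
  have hdes := descent (fun y hy hy' => half_four hs (by omega) hx hc hy hy')
  have hcast : ∀ a b : ℕ, (a : F) = (b : F) ↔ a ≡ b [MOD p] := fun a b => CharP.natCast_eq_natCast F p
  have hnd : ∀ a : ℕ, ¬ p ∣ a → (a : F) ≠ 0 := fun a ha h0 => ha ((CharP.cast_eq_zero_iff F p a).1 h0)
  have hp2 : p ≠ 2 := fun h => S.two (by have := hp0; rw [h, Nat.cast_ofNat] at this; exact this)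
  have hpr : ∀ {q : ℕ}, q.Prime → p ∣ q → p = q := fun hq h => (Nat.prime_dvd_prime_iff_eq hp hq).1 h
  -- three short vectors
  have hthree : ∀ (z : Fin 6 → ℤ) (k : ℕ), ∑ i, z i * z i = 4 ^ k → (z 0 : F) ≠ 0 → (z 1 : F) ≠ 0 →
      (z 2 : F) ≠ 0 → (z 3 : F) = 0 → (z 4 : F) = 0 → (z 5 : F) = 0 → False := by
    intro z k hsum h0 h1 h2 e3 e4 e5
    have hR := hdes k z hsum
    have hsupp : supp (fun i => (z i : F) * ((2 : F) ^ k)⁻¹) = {0, 1, 2} := by
      ext i
      rw [mem_supp]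
      fin_cases i <;> simp [h0, h1, h2, e3, e4, e5, S.two]
    refine hs _ hR (by rw [hsupp]; decide) (Or.inl (by rw [hsupp]; decide))
  by_cases h5 : p = 5
  · have h5' : (5 : F) = 0 := by have := hp0; rwa [h5, Nat.cast_ofNat] at this
    refine hthree ![1, 2, 3, 5, 5, 0] 3 (by decide) ?_ ?_ ?_ ?_ ?_ ?_
    · simp
    · simpa using hnd 2 (by rw [h5]; decide)
    · simpa using hnd 3 (by rw [h5]; decide)
    all_goals simp [h5']
  by_cases h7 : p = 7
  · have h7' : (7 : F) = 0 := by have := hp0; rwa [h7, Nat.cast_ofNat] at this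
    refine hthree ![3, 1, 1, 7, 14, 0] 4 (by decide) ?_ ?_ ?_ ?_ ?_ ?_
    · simpa using hnd 3 (by rw [h7]; decide)
    · simp
    · simp
    · simp [h7']
    · have : (14 : F) = 0 := by rw [show (14 : F) = 2 * 7 by norm_num, h7', mul_zero]
      simp [this]
    · simp
  set k := 25 * p ^ 4 with hk
  have hbig : 25 * p ^ 4 ≤ 4 ^ k := (Nat.lt_pow_self (by norm_num)).le
  have hco : Nat.Coprime 5 (p ^ 2) :=
    Nat.Coprime.pow_right 2 ((Nat.coprime_primes (by norm_num) hp).2 (Ne.symm h5))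
  have : NeZero (p ^ 2) := ⟨(pow_pos hp.pos 2).ne'⟩
  let tz : ZMod (p ^ 2) := ((ZMod.unitOfCoprime 5 hco)⁻¹ : (ZMod (p ^ 2))ˣ) * (2 : ZMod (p ^ 2)) ^ k
  set t := tz.val with htdef
  have htz : (((5 * t : ℕ)) : ZMod (p ^ 2)) = ((2 ^ k : ℕ) : ZMod (p ^ 2)) := by
    rw [Nat.cast_mul, htdef, ZMod.natCast_zmod_val, Nat.cast_pow, ← ZMod.coe_unitOfCoprime 5 hco, ← mul_assoc,
      ← Units.val_mul, mul_inv_cancel, Units.val_one, one_mul]
    rfl
  have htM : (5 * t) ≡ 2 ^ k [MOD p ^ 2] := (ZMod.natCast_eq_natCast_iff _ _ _).1 htz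
  have htF : (5 : F) * (t : F) = 2 ^ k := by
    have := (CharP.natCast_eq_natCast F p).2 (htM.of_dvd (dvd_pow_self p two_ne_zero))
    push_cast at this
    exact this
  have htlt : t < p ^ 2 := ZMod.val_lt tz
  have hle : 25 * t * t ≤ 4 ^ k := by
    refine le_trans ?_ hbig
    rw [mul_assoc, show p ^ 4 = p ^ 2 * p ^ 2 by ring]
    exact Nat.mul_le_mul_left 25 (Nat.mul_le_mul htlt.le htlt.le)
  have hdvd : p ^ 2 ∣ 4 ^ k - 25 * t * t := by
    refine (Nat.modEq_iff_dvd' hle).1 ?_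
    have := htM.mul htM
    rwa [show 5 * t * (5 * t) = 25 * t * t by ring, ← mul_pow, show 2 * 2 = 4 from rfl] at this
  obtain ⟨N, hN⟩ := hdvd
  obtain ⟨A, B', C, D, hABCD⟩ := Nat.sum_four_squares N
  set z : Fin 6 → ℤ := ![3 * t, 4 * t, p * A, p * B', p * C, p * D] with hz
  have hsum : ∑ i, z i * z i = 4 ^ k := by
    have hNZ : ((4 : ℤ) ^ k) = 25 * t * t + (p : ℤ) ^ 2 * N := by
      have := Nat.add_sub_cancel' hle
      rw [hN] at this
      exact_mod_cast this.symm
    have hABZ : (N : ℤ) = A ^ 2 + B' ^ 2 + C ^ 2 + D ^ 2 := by exact_mod_cast hABCD.symm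
    rw [hNZ, hABZ, Fin.sum_univ_six]
    simp [hz]
    ring
  have hR := hdes k z hsum
  have h2k : ((2 : F) ^ k) ≠ 0 := pow_ne_zero _ S.two
  have ht0 : (t : F) ≠ 0 := fun e => h2k (by rw [← htF, e, mul_zero])
  have h30 : (3 : F) ≠ 0 := by simpa using hnd 3 (fun h => h3 (hpr Nat.prime_three h))
  have h40 : (4 : F) ≠ 0 := by rw [show (4 : F) = 2 * 2 by norm_num]; exact mul_ne_zero S.two S.two
  set w : Fin 6 → F := fun i => (z i : F) * ((2 : F) ^ k)⁻¹ with hw
  have hsupp : supp w = {0, 1} := by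
    ext i
    rw [mem_supp, hw]
    fin_cases i <;> simp [hz, hp0, ht0, h30, h40, S.two]
  refine hs w hR (by rw [hsupp]; decide) (Or.inr ⟨0, 1, ?_, ?_, ?_⟩)
  · simp [hw, hz, ht0, h30, S.two]
  · simp [hw, hz, ht0, h40, S.two]
  · intro hsq
    have h70 : (7 : F) ≠ 0 := by simpa using hnd 7 (fun h => h7 (hpr (by norm_num) h))
    simp [hw, hz] at hsq
    have : (7 : F) * ((t : F) * ((2 : F) ^ k)⁻¹ * ((t : F) * ((2 : F) ^ k)⁻¹)) = 0 := by linear_combination -hsq
    exact h70 ((mul_eq_zero.1 this).resolve_right (mul_ne_zero (mul_ne_zero ht0 (inv_ne_zero h2k))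
      (mul_ne_zero ht0 (inv_ne_zero h2k))))

/-- a subgroup containing the monomial isometries of Omega and a non-monomial one contains Omega -/
theorem omega_le_six (hn : n = 6) (hp : (Fintype.card F).Prime) (hM : S.M ≤ Cfsg.Omega F ⇑Q) {g : Iso}
    (hg : g ∈ S.M) (hng : ¬ S.Mon g) : Cfsg.Omega F ⇑Q ≤ S.M := by
  classical
  refine omega_le_of_triples fun {a b c} hab hac hbc {z} hz hzz => ?_
  by_cases hA : ∃ x, S.R0 x ∧ (supp x).card ≤ 3 ∧ Nontriv x
  · obtain ⟨x, hx, hc, hN⟩ := hA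
    exact centres_A hp hx hc hN hab hac hbc hz hzz
  have hs3 : S.Small 3 := fun x hx hc hN => hA ⟨x, hx, hc, hN⟩
  by_cases hB : ∃ x, S.R0 x ∧ (supp x).card = 4
  · obtain ⟨x, hx, hc⟩ := hB
    obtain ⟨h3, hfour⟩ := three_of_four_six hn hp hs3 hx hc
    exact centres_B hp h3 hfour hab hac hbc hz hzz
  refine absurd (mon_of_small_six hn (fun x hx hc hN => ?_) hM hg) hng
  rcases Nat.lt_or_ge (supp x).card 4 with h | h
  · exact hs3 x hx (by omega) hN
  · exact hB ⟨x, hx, le_antisymm hc h⟩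

end Setup

end Cfsg.Agent.Forms.Max.UnitFrame
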