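import Cfsg.Agent.Lib.Forms.Max.UnitFrame.Six.Mat
import Cfsg.Agent.Lib.Forms.Max.UnitFrame.Rot

/-!
# Six frame vectors: centralisers of sign changes of two vectors

Without members of small support, an element of the subgroup commuting with the sign change of two frame vectors
is monomial, as is an element fixing a frame line.
-/

set_option autoImplicit false
set_option linter.unusedSectionVars false
set_option linter.unusedSimpArgs false

namespace Cfsg.Agent.Forms.Max.UnitFrame

open Matrix Cfsg.Agent.Forms.QuadStd Cfsg.Agent.Forms.Reflections Cfsg.Agent.Classical.Orth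

variable {F : Type*} [Field F] [Fintype F] {ι : Type} [Fintype ι] [DecidableEq ι] {n : ℕ}
variable {Q : QuadraticForm F (ι → F)} {S : Setup Q n}

set_option quotPrecheck false in
local notation "Iso" => Cfsg.isometryGroup F ⇑Q

namespace Setup

theorem img_sub (g : Iso) (x y : Fin n → F) : S.img g (x - y) = S.img g x - S.img g y := by
  rw [sub_eq_add_neg, S.img_add, S.img_neg, sub_eq_add_neg]

/-- complementary sign changes differ by the central one -/
theorem eps_compl (A : Finset (Fin n)) : S.eps Aᶜ = S.eps Finset.univ * S.eps A := by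
  rw [eps_mul]; congr 1
  ext i; simp [Finset.mem_symmDiff]

theorem eps_univ_comm (g : Iso) : g * S.eps Finset.univ = S.eps Finset.univ * g := by
  refine S.ext_e fun i => ?_
  rw [act_mul, act_mul, act_eps, if_pos (Finset.mem_univ i), map_neg]
  rw [act_e, ← vec_img, show S.img (S.eps Finset.univ) (S.img g (Pi.single i 1)) = -S.img g (Pi.single i 1) from
    S.img_eps_eq_neg.2 (fun m hm => absurd (Finset.mem_univ m) hm), map_neg]

theorem eps_compl_comm {g : Iso} {A A' : Finset (Fin n)} (h : g * S.eps A = S.eps A' * g) :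
    g * S.eps Aᶜ = S.eps A'ᶜ * g := by
  rw [eps_compl, eps_compl, ← mul_assoc, eps_univ_comm, mul_assoc, h, mul_assoc]

variable (hn : n = 6) (hs : S.Small 4)
include hn hs

/-- the centraliser of a sign change of two frame vectors is monomial -/
theorem cent_pair {h : Iso} (hh : h ∈ S.M) {A : Finset (Fin n)} (hA : A.card = 2)
    (hc : h * S.eps A = S.eps A * h) : S.Mon h := by
  classical
  set U : Finset (Fin n) := Aᶜ with hU
  have hUc : U.card = 4 := by rw [hU, Finset.card_compl, Fintype.card_fin, hA, hn]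
  have hcU : h * S.eps U = S.eps U * h := eps_compl_comm hc
  have hci : h⁻¹ * S.eps U = S.eps U * h⁻¹ := (Commute.inv_left (show Commute h (S.eps U) from hcU)).eq
  obtain ⟨e, f, hef, hAef⟩ := Finset.card_eq_two.1 hA
  have hinA : ∀ {g : Iso}, g * S.eps U = S.eps U * g → ∀ i, i ∉ U → ∀ m ∈ U, S.img g (Pi.single i 1) m = 0 :=
    fun hg i hi => supp_out hg fun m hm => Pi.single_eq_of_ne (fun e1 : m = i => hi (e1 ▸ hm)) 1
  have hinU : ∀ {g : Iso}, g * S.eps U = S.eps U * g → ∀ i ∈ U, ∀ m, m ∉ U → S.img g (Pi.single i 1) m = 0 :=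
    fun hg i hi => supp_in hg fun m hm => Pi.single_eq_of_ne (fun e1 : m = i => hm (e1 ▸ hi)) 1
  have hnotU : ∀ i, i ∉ U ↔ i = e ∨ i = f := fun i => by simp [hU, hAef, or_iff_not_imp_left]
  -- columns outside are short
  have hcolA : ∀ {g : Iso}, g * S.eps U = S.eps U * g → ∀ i, i ∉ U →
      (supp (S.img g (Pi.single i 1))).card ≤ 2 := fun hg i hi =>
    (supp_card_le (T := A) fun m hm => hinA hg i hi m (by simp [hU, hm])).trans hA.le
  have hcolU : ∀ {g : Iso}, g * S.eps U = S.eps U * g → ∀ i ∈ U,
      (supp (S.img g (Pi.single i 1))).card ≤ 4 := fun hg i hi =>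
    (supp_card_le (hinU hg i hi)).trans hUc.le
  have hmon : ∀ {g : Iso}, g ∈ S.M → g * S.eps U = S.eps U * g → ∀ {k j : Fin n} {s : F},
      S.img g (Pi.single k 1) = s • Pi.single j 1 → S.Mon g := fun {g} hg hgc {k j s} hk => by
    refine mon_of_cols (hs.mono (by norm_num)) hg hk fun i => Or.inl ?_
    refine hs _ (R0.map_col hg hk (single_mem i)) ?_
    by_cases hi : i ∈ U
    · exact hcolU hgc i hi
    · exact (hcolA hgc i hi).trans (by norm_num)
  -- the three-cycle
  obtain ⟨a, b, c, ha, hb, hc', hab, hac, hbc⟩ := Finset.two_lt_card_iff.1 (show 2 < U.card by omega)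
  set σ : Equiv.Perm (Fin n) := Equiv.swap a b * Equiv.swap b c with hσ
  have hσ1 : Equiv.Perm.sign σ = 1 := by
    rw [hσ, map_mul, Equiv.Perm.sign_swap hab, Equiv.Perm.sign_swap hbc, Int.units_mul_self]
  have hσU : ∀ i, i ∉ U → σ i = i := fun i hi => by
    have h1 : i ≠ a := fun e1 => hi (e1 ▸ ha)
    have h2 : i ≠ b := fun e1 => hi (e1 ▸ hb)
    have h3 : i ≠ c := fun e1 => hi (e1 ▸ hc')
    rw [hσ, Equiv.Perm.mul_apply, Equiv.swap_apply_of_ne_of_ne h2 h3, Equiv.swap_apply_of_ne_of_ne h1 h2]
  have hσ3 : σ * (σ * σ) = 1 := by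
    refine Equiv.ext fun i => ?_
    simp only [hσ, Equiv.Perm.mul_apply, Equiv.Perm.one_apply]
    by_cases h1 : i = a
    · subst h1; simp [Equiv.swap_apply_def, hab, hac, hbc, hab.symm, hac.symm, hbc.symm]
    by_cases h2 : i = b
    · subst h2; simp [Equiv.swap_apply_def, hab, hac, hbc, hab.symm, hac.symm, hbc.symm]
    by_cases h3 : i = c
    · subst h3; simp [Equiv.swap_apply_def, hab, hac, hbc, hab.symm, hac.symm, hbc.symm]
    simp [Equiv.swap_apply_def, h1, h2, h3]
  set m := h * S.perm σ * h⁻¹ with hm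
  have hmM : m ∈ S.M := mul_mem (mul_mem hh (S.perm_mem hσ1)) (inv_mem hh)
  have hmfix : ∀ i, i ∉ U → S.img m (Pi.single i 1) = Pi.single i 1 := fun i hi => by
    rw [hm, img_mul, img_mul]
    have hz : S.img (S.perm σ) (S.img h⁻¹ (Pi.single i 1)) = S.img h⁻¹ (Pi.single i 1) := by
      funext z
      rw [img_perm]
      by_cases hz : z ∈ U
      · have hz' : σ.symm z ∈ U := by
          by_contra hc''
          have := hσU _ hc''
          rw [σ.apply_symm_apply] at this
          exact hc'' (this ▸ hz)
        rw [hinA hci i hi z hz, hinA hci i hi _ hz']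
      · rw [show σ.symm z = z by conv_lhs => rw [← hσU z hz, σ.symm_apply_apply]]
    rw [hz, img_img_inv]
  have hmc : m * S.eps U = S.eps U * m :=
    (((show Commute h (S.eps U) from hcU).mul_left (perm_comm_eps hσU)).mul_left hci).eq
  have hout : ∃ o, o ∉ U := ⟨e, (hnotU e).2 (Or.inl rfl)⟩
  have hmm : S.Mon m := local_mon hs (by norm_num) hmM hUc.le hout hmfix hmc
  obtain ⟨π, hπ⟩ := S.mon_exists_perm hmm
  have hm3 : m * (m * m) = 1 := by
    rw [hm, show h * S.perm σ * h⁻¹ * (h * S.perm σ * h⁻¹ * (h * S.perm σ * h⁻¹)) =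
      h * (S.perm σ * (S.perm σ * S.perm σ)) * h⁻¹ by group, ← perm_mul, ← perm_mul, hσ3, perm_one, mul_one,
      mul_inv_cancel]
  have hπ3 : π * (π * π) = 1 := (IsPerm.mul (S := S) hπ (IsPerm.mul hπ hπ)).unique (hm3.symm ▸ IsPerm.one)
  have hπout : ∀ i, i ∉ U → π i = i := fun i hi => by
    obtain ⟨s, -, hs'⟩ := hπ i
    rw [hmfix i hi] at hs'
    by_contra hne
    have := congrFun hs' i
    simp [Ne.symm hne] at this
  obtain ⟨l, hlU, hl⟩ : ∃ l ∈ U, π l = l := by
    have hmod := Equiv.Perm.card_compl_support_modEq (α := Fin n) (p := 3) (n := 1) (σ := π)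
      (by rw [pow_one, pow_succ, pow_two, mul_assoc]; exact hπ3)
    rw [Fintype.card_fin] at hmod
    have hsub : ({e, f} : Finset (Fin n)) ⊆ π.supportᶜ := fun i hi => by
      rw [Finset.mem_compl, Equiv.Perm.mem_support, not_not]
      refine hπout i ((hnotU i).2 ?_)
      simpa using hi
    by_contra hcon
    push Not at hcon
    have hle : π.supportᶜ ⊆ {e, f} := fun i hi => by
      rw [Finset.mem_compl, Equiv.Perm.mem_support, not_not] at hi
      simpa using (hnotU i).1 fun hiU => hcon i hiU hi
    rw [le_antisymm hle hsub, Finset.card_pair hef, Nat.ModEq] at hmod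
    clear hσ3 hπ3
    omega
  obtain ⟨s, hs1, hsl⟩ := hπ l
  rw [hl] at hsl
  have hsone : s = 1 := by
    have h3 : S.img (m * (m * m)) (Pi.single l 1) = (s * (s * s)) • Pi.single l 1 := by
      rw [S.img_mul m (m * m), S.img_mul m m, hsl, S.img_smul, hsl, smul_smul, S.img_smul, hsl, smul_smul]
      congr 1
      ring
    rw [hm3, img_one, hs1, mul_one] at h3
    simpa using (congrFun h3 l).symm
  rw [hsone, one_smul] at hsl
  -- the vector fixed by the three-cycle
  set y := S.img h⁻¹ (Pi.single l 1) with hy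
  have hyσ : S.img (S.perm σ) y = y := by
    have := congrArg (S.img h⁻¹) hsl
    rwa [hm, img_mul, img_mul, img_inv_img] at this
  have hyab : y a = y b := by
    have := congrFun hyσ b
    rwa [img_perm, show σ.symm b = a by
      rw [Equiv.symm_apply_eq, hσ, Equiv.Perm.mul_apply, Equiv.swap_apply_of_ne_of_ne hab hac,
        Equiv.swap_apply_left]] at this
  have hyef : ∀ i, i ∉ U → y i = 0 := hinU hci l hlU
  -- the double transposition
  set τ : Equiv.Perm (Fin n) := Equiv.swap a b * Equiv.swap e f with hτ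
  have heU : e ∉ U := (hnotU e).2 (Or.inl rfl)
  have hfU : f ∉ U := (hnotU f).2 (Or.inr rfl)
  have hae : a ≠ e := fun e1 => heU (e1 ▸ ha)
  have haf : a ≠ f := fun e1 => hfU (e1 ▸ ha)
  have hbe : b ≠ e := fun e1 => heU (e1 ▸ hb)
  have hbf : b ≠ f := fun e1 => hfU (e1 ▸ hb)
  have hτ1 : Equiv.Perm.sign τ = 1 := by
    rw [hτ, map_mul, Equiv.Perm.sign_swap hab, Equiv.Perm.sign_swap hef, Int.units_mul_self]
  have hτs : τ.symm = Equiv.swap e f * Equiv.swap a b := by
    rw [← Equiv.Perm.inv_def, hτ, _root_.mul_inv_rev, Equiv.swap_inv, Equiv.swap_inv]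
  have hτy : S.img (S.perm τ) y = y := by
    funext i
    rw [img_perm, hτs, Equiv.Perm.mul_apply]
    by_cases h1 : i = a
    · subst h1; rw [Equiv.swap_apply_left, Equiv.swap_apply_of_ne_of_ne hbe hbf, hyab]
    by_cases h2 : i = b
    · subst h2; rw [Equiv.swap_apply_right, Equiv.swap_apply_of_ne_of_ne hae haf, hyab]
    rw [Equiv.swap_apply_of_ne_of_ne h1 h2]
    by_cases h3 : i = e
    · subst h3; rw [Equiv.swap_apply_left, hyef _ heU, hyef _ hfU]
    by_cases h4 : i = f
    · subst h4; rw [Equiv.swap_apply_right, hyef _ heU, hyef _ hfU]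
    rw [Equiv.swap_apply_of_ne_of_ne h3 h4]
  set z := h * S.perm τ * h⁻¹ with hz
  have hzM : z ∈ S.M := mul_mem (mul_mem hh (S.perm_mem hτ1)) (inv_mem hh)
  have hzl : S.img z (Pi.single l 1) = (1 : F) • Pi.single l 1 := by
    rw [one_smul, hz, img_mul, img_mul, ← hy, hτy, hy, img_img_inv]
  have hτU : U.map τ.toEmbedding = U := by
    refine Finset.eq_of_subset_of_card_le (fun j hj => ?_) (by rw [Finset.card_map])
    obtain ⟨i, hi, rfl⟩ := Finset.mem_map.1 hj
    have h3 : i ≠ e := fun e1 => heU (e1 ▸ hi)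
    have h4 : i ≠ f := fun e1 => hfU (e1 ▸ hi)
    show τ i ∈ U
    rw [hτ, Equiv.Perm.mul_apply, Equiv.swap_apply_of_ne_of_ne h3 h4]
    by_cases h1 : i = a
    · subst h1; rw [Equiv.swap_apply_left]; exact hb
    by_cases h2 : i = b
    · subst h2; rw [Equiv.swap_apply_right]; exact ha
    rwa [Equiv.swap_apply_of_ne_of_ne h1 h2]
  have hτc : S.perm τ * S.eps U = S.eps U * S.perm τ := by rw [perm_mul_eps, hτU]
  have hzc : z * S.eps U = S.eps U * z :=
    (((show Commute h (S.eps U) from hcU).mul_left hτc).mul_left hci).eq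
  have hzm : S.Mon z := hmon hzM hzc hzl
  -- the two combinations of the outside vectors
  set w := S.img h (Pi.single e 1 - Pi.single f 1) with hw
  set u := S.img h (Pi.single e 1 + Pi.single f 1) with hu
  have hwv : w = S.img h (Pi.single e 1) - S.img h (Pi.single f 1) := img_sub _ _ _
  have huv : u = S.img h (Pi.single e 1) + S.img h (Pi.single f 1) := S.img_add _ _ _
  have hτw : ∀ x : Fin n → F, (∀ i, i ≠ e → i ≠ f → x i = 0) →
      S.img (S.perm τ) x = fun i => x (Equiv.swap e f i) := fun x hx => by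
    funext i
    rw [img_perm, hτs, Equiv.Perm.mul_apply]
    by_cases h1 : i = a
    · subst h1
      rw [Equiv.swap_apply_left, Equiv.swap_apply_of_ne_of_ne hbe hbf, Equiv.swap_apply_of_ne_of_ne hae haf,
        hx b hbe hbf, hx _ hae haf]
    by_cases h2 : i = b
    · subst h2
      rw [Equiv.swap_apply_right, Equiv.swap_apply_of_ne_of_ne hae haf, Equiv.swap_apply_of_ne_of_ne hbe hbf,
        hx a hae haf, hx _ hbe hbf]
    rw [Equiv.swap_apply_of_ne_of_ne h1 h2]
  have hzw : S.img z w = -w ∧ S.img z u = u := by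
    constructor
    · rw [hz, hw, img_mul, img_mul, img_inv_img, hτw _ (fun i h1 h2 => by simp [h1, h2]), ← img_neg]
      congr 1
      funext i
      simp only [Pi.neg_apply, Pi.sub_apply, Pi.single_apply, Equiv.swap_apply_eq_iff, Equiv.swap_apply_left,
        Equiv.swap_apply_right, neg_sub]
    · rw [hz, hu, img_mul, img_mul, img_inv_img, hτw _ (fun i h1 h2 => by simp [h1, h2])]
      congr 1
      funext i
      simp only [Pi.add_apply, Pi.single_apply, Equiv.swap_apply_eq_iff, Equiv.swap_apply_left,
        Equiv.swap_apply_right]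
      ring
  have hout' : ∀ i, i ∈ U → w i = 0 ∧ u i = 0 := fun i hi => by
    rw [hwv, huv, Pi.sub_apply, Pi.add_apply, hinA hcU e heU i hi, hinA hcU f hfU i hi]
    simp
  have hA2 : ∀ x y : Fin n → F, (∀ i ∈ U, x i = 0) → dot x y = x e * y e + x f * y f := fun x y hx => by
    rw [dot, Finset.sum_eq_add e f hef (fun i _ hi => by
      rw [hx i (by_contra fun hiU => ((hnotU i).1 hiU).elim hi.1 hi.2), zero_mul])
      (fun hh => absurd (Finset.mem_univ _) hh) (fun hh => absurd (Finset.mem_univ _) hh)]
  have hdd : dot w w = 2 ∧ dot u u = 2 ∧ dot w u = 0 := by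
    refine ⟨?_, ?_, ?_⟩ <;> simp only [hwv, huv, dot_sub_left, dot_sub_right, dot_add_left, dot_add_right,
      S.col_dot, if_true, if_neg hef, if_neg hef.symm] <;> ring
  rw [hA2 w w (fun i hi => (hout' i hi).1), hA2 u u (fun i hi => (hout' i hi).2),
    hA2 w u (fun i hi => (hout' i hi).1)] at hdd
  obtain ⟨hww, huu, hwu⟩ := hdd
  by_cases hwe : w e = 0 ∨ w f = 0
  swap
  · -- both coordinates are non-zero: the swap
    push Not at hwe
    obtain ⟨π', hπ'⟩ := S.mon_exists_perm hzm
    obtain ⟨t, ht1, ht⟩ := hπ' e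
    have hpe : π' e = f := by
      have h0 : ∀ i ∈ U, S.img z (Pi.single e 1) i = 0 := hinA hzc e heU
      have hπe : π' e ∉ U := fun hin => by
        have := h0 _ hin
        rw [ht] at this
        simp at this
        rw [this, mul_zero] at ht1
        exact zero_ne_one ht1
      rcases (hnotU _).1 hπe with h1 | h1
      · exfalso
        rw [h1] at ht
        have hzz : ∀ x : Fin n → F, S.img z x e = t * x e := fun x => by
          rw [← dot_single e (S.img z x), ← dot_single e x]
          have he1 : Pi.single e (1 : F) = t • S.img z (Pi.single e 1) := by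
            rw [ht, smul_smul, ht1, one_smul]
          conv_lhs => rw [he1]
          rw [dot_smul_left, dot_img]
        have k1 := hzz w
        have k2 := hzz u
        rw [hzw.1, Pi.neg_apply] at k1
        rw [hzw.2] at k2
        have hue : u e = 0 := by
          have : (t + 1) * w e = 0 := by linear_combination -k1
          have ht' : t = -1 := by linear_combination (mul_eq_zero.1 this).resolve_right hwe.1
          rw [ht'] at k2
          exact (mul_eq_zero.1 (show (2 : F) * u e = 0 by linear_combination k2)).resolve_left S.two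
        rw [hue] at hwu huu
        have huf : u f = 0 := (mul_eq_zero.1 (show w f * u f = 0 by linear_combination hwu)).resolve_left hwe.2
        rw [huf] at huu
        exact S.two (by linear_combination -huu)
      · exact h1
    rw [hpe] at ht
    have hzf : ∀ x : Fin n → F, S.img z x f = t * x e := fun x => by
      rw [← dot_single f (S.img z x), ← dot_single e x]
      have he1 : Pi.single f (1 : F) = t • S.img z (Pi.single e 1) := by rw [ht, smul_smul, ht1, one_smul]
      conv_lhs => rw [he1]
      rw [dot_smul_left, dot_img]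
    have k1 := hzf w
    have k2 := hzf u
    rw [hzw.1, Pi.neg_apply] at k1
    rw [hzw.2] at k2
    have e1 : w e * w e = 1 := mul_left_cancel₀ S.two (by
      linear_combination hww - (w f - t * w e) * k1 * (-1 : F) - (w e * w e) * ht1)
    have e2 : u e * u e = 1 := mul_left_cancel₀ S.two (by
      linear_combination huu - (u f + t * u e) * k2 - (u e * u e) * ht1)
    have hcase : u e = w e ∨ u e = -w e := mul_self_eq_mul_self_iff.1 (e2.trans e1.symm)
    have hhe : (2 : F) • S.img h (Pi.single e 1) = w + u := by rw [hwv, huv, two_smul]; abel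
    have hval : ∀ i, 2 * S.img h (Pi.single e 1) i = w i + u i := fun i => congrFun hhe i
    rcases hcase with hue | hue
    · refine hmon hh hcU (k := e) (j := e) (s := S.img h (Pi.single e 1) e) (single_of_supp ?_)
      refine supp_subset_iff.2 fun i hi => mul_left_cancel₀ S.two ?_
      rw [mul_zero, hval i]
      by_cases hiU : i ∈ U
      · rw [(hout' i hiU).1, (hout' i hiU).2, add_zero]
      · rcases (hnotU i).1 hiU with rfl | rfl
        · simp at hi
        · rw [hue] at k2; linear_combination k2 - k1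
    · refine hmon hh hcU (k := e) (j := f) (s := S.img h (Pi.single e 1) f) (single_of_supp ?_)
      refine supp_subset_iff.2 fun i hi => mul_left_cancel₀ S.two ?_
      rw [mul_zero, hval i]
      by_cases hiU : i ∈ U
      · rw [(hout' i hiU).1, (hout' i hiU).2, add_zero]
      · rcases (hnotU i).1 hiU with rfl | rfl
        · rw [hue, add_neg_cancel]
        · simp at hi
  -- a coordinate vanishes: halves of sums of two frame vectors are in the class
  obtain ⟨g₀, ν₀, hg₀, hν⟩ : ∃ g₀ : Fin n, ∃ ν₀ : F, w = ν₀ • Pi.single g₀ 1 ∧ 2 = ν₀ * ν₀ := by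
    rcases hwe with h0 | h0
    · refine ⟨f, w f, single_of_supp (supp_subset_iff.2 fun i hi => ?_), ?_⟩
      · by_cases hiU : i ∈ U
        · exact (hout' i hiU).1
        · rcases (hnotU i).1 hiU with rfl | rfl
          · exact h0
          · simp at hi
      · rw [h0] at hww; linear_combination -hww
    · refine ⟨e, w e, single_of_supp (supp_subset_iff.2 fun i hi => ?_), ?_⟩
      · by_cases hiU : i ∈ U
        · exact (hout' i hiU).1
        · rcases (hnotU i).1 hiU with rfl | rfl
          · simp at hi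
          · exact h0
      · rw [h0] at hww; linear_combination -hww
  have hν0 : ν₀ ≠ 0 := fun h0 => S.two (by rw [hν, h0, mul_zero])
  have ht : 2 * (ν₀⁻¹ * ν₀⁻¹) = 1 := by rw [hν]; field_simp
  have hbase : S.R0 (ν₀⁻¹ • (Pi.single e 1 - Pi.single f 1)) := by
    convert (S.half_mem hef ht).flip f using 1
    funext i
    by_cases hi : i = f
    · subst hi; simp [hef.symm]
    · simp [hi]
  have hcls : ∀ {x : Fin n → F}, S.R0 x → S.R0 (S.img h x) := fun {x} hx => by
    refine R0.image hh hbase ?_ hx
    rw [S.img_smul, ← hw, hg₀, smul_smul, inv_mul_cancel₀ hν0, one_smul]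
    exact single_mem g₀
  have hcol : ∀ i, S.R0 (S.img h (Pi.single i 1)) := fun i => hcls (single_mem i)
  have hsmall : ∀ i, (supp (S.img h (Pi.single i 1))).card ≤ 4 → (supp (S.img h (Pi.single i 1))).card ≤ 2 :=
    fun i hi => by
      by_contra hlt
      exact hs _ (hcol i) hi (Or.inl (by omega))
  obtain ⟨j, hj⟩ := supp_nonempty (show dot (S.img h (Pi.single e 1)) (S.img h (Pi.single e 1)) = 1 by
    rw [col_dot, if_pos rfl])
  rcases Nat.lt_or_ge (supp (S.img h (Pi.single e 1))).card 2 with h1 | h1
  · exact hmon hh hcU (single_of_supp fun i hi => Finset.mem_singleton.2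
      (Finset.card_le_one.1 (by omega) i hi j hj))
  exfalso
  set z' := S.img h (ν₀⁻¹ • (Pi.single e 1 + Pi.single a 1)) with hz'
  have hz'R : S.R0 z' := hcls (S.half_mem hae.symm ht)
  have hz'v : z' = ν₀⁻¹ • (S.img h (Pi.single e 1) + S.img h (Pi.single a 1)) := by
    rw [hz', S.img_smul, S.img_add]
  have hdisj : Disjoint (supp (S.img h (Pi.single e 1))) (supp (S.img h (Pi.single a 1))) := by
    rw [Finset.disjoint_left]
    intro i hi hi'
    by_cases hiU : i ∈ U
    · exact mem_supp.1 hi (hinA hcU e heU i hiU)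
    · exact mem_supp.1 hi' (hinU hcU a ha i hiU)
  have hsupp : supp z' = supp (S.img h (Pi.single e 1)) ∪ supp (S.img h (Pi.single a 1)) := by
    ext i
    rw [Finset.mem_union, hz'v, mem_supp, Pi.smul_apply, smul_eq_mul, Pi.add_apply, mul_ne_zero_iff,
      and_iff_right (inv_ne_zero hν0)]
    have h0 := fun hi => (Finset.disjoint_left.1 hdisj) (a := i) hi
    simp only [mem_supp] at h0 ⊢
    by_cases hie : S.img h (Pi.single e 1) i = 0
    · simp [hie]
    · simp [hie, not_ne_iff.1 (h0 hie)]
  have hca := hsmall a (hcolU hcU a ha)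
  have hce := hsmall e ((hcolA hcU e heU).trans (by norm_num))
  obtain ⟨j', hj'⟩ := supp_nonempty (show dot (S.img h (Pi.single a 1)) (S.img h (Pi.single a 1)) = 1 by
    rw [col_dot, if_pos rfl])
  have hpos := Finset.card_pos.2 ⟨j', hj'⟩
  have hun := Finset.card_union_of_disjoint hdisj
  rw [← hsupp] at hun
  exact hs z' hz'R (by omega) (Or.inl (by omega))

/-- an element of the subgroup fixing a frame line is monomial -/
theorem mon_of_col {g : Iso} (hg : g ∈ S.M) {i k : Fin n} {s : F}
    (hk : S.img g (Pi.single i 1) = s • Pi.single k 1) : S.Mon g := by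
  classical
  obtain ⟨j, hj⟩ : ((Finset.univ.erase i)).Nonempty := Finset.card_pos.1 (by
    rw [Finset.card_erase_of_mem (Finset.mem_univ i), Finset.card_univ, Fintype.card_fin, hn]; norm_num)
  have hji : j ≠ i := (Finset.mem_erase.1 hj).1
  obtain ⟨τ, hτ1, hτ⟩ : ∃ τ : Equiv.Perm (Fin n), Equiv.Perm.sign τ = 1 ∧ τ k = i := by
    by_cases hki : k = i
    · exact ⟨1, map_one _, hki⟩
    obtain ⟨a, ha, b, hb, hab⟩ := Finset.one_lt_card.1 (show 1 < (({i, k} : Finset (Fin n))ᶜ).card by
      rw [Finset.card_compl, Fintype.card_fin, Finset.card_pair (Ne.symm hki), hn]; norm_num)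
    simp only [Finset.mem_compl, Finset.mem_insert, Finset.mem_singleton, not_or] at ha hb
    refine ⟨Equiv.swap k i * Equiv.swap a b, by
      rw [map_mul, Equiv.Perm.sign_swap hki, Equiv.Perm.sign_swap hab, Int.units_mul_self], ?_⟩
    rw [Equiv.Perm.mul_apply, Equiv.swap_apply_of_ne_of_ne (Ne.symm ha.2) (Ne.symm hb.2), Equiv.swap_apply_left]
  have hs1 := S.col_sq hk
  have h1 : S.img (S.perm τ * g) (Pi.single i 1) = s • Pi.single i 1 := by
    rw [img_mul, hk, S.img_smul]
    congr 1
    funext m
    rw [img_perm, Pi.single_apply, Pi.single_apply]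
    simp only [Equiv.symm_apply_eq, hτ]
  set D : Finset (Fin n) := if s = 1 then ∅ else {i, j} with hD
  have hDe : Even D.card := by
    rw [hD]; split
    · exact ⟨0, rfl⟩
    · rw [Finset.card_pair hji.symm]; exact even_two
  set g' := S.eps D * (S.perm τ * g) with hg'
  have hg'T : g' ∈ S.GT (Finset.univ.erase i) := by
    refine ⟨mul_mem (S.eps_mem hDe) (mul_mem (S.perm_mem hτ1) hg), fun m hm => ?_⟩
    have hmi : m = i := by simpa using hm
    subst hmi
    rw [hg', act_mul, act_e, ← vec_single, ← vec_img, h1, S.img_smul]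
    congr 1
    funext z
    rw [Pi.smul_apply, img_eps, smul_eq_mul, hD]
    rcases mul_self_eq_one_iff.1 hs1 with e1 | e1
    · rw [if_pos e1, e1]; simp
    · rw [if_neg (fun e2 : s = 1 => S.two (by linear_combination e1 - e2)), e1]
      by_cases hz : z = m
      · subst hz; simp
      · by_cases hzj : z = j <;> simp [hz, hzj, hji, hji.symm]
  have hcard : (Finset.univ.erase i).card = 5 := by
    rw [Finset.card_erase_of_mem (Finset.mem_univ i), Finset.card_univ, Fintype.card_fin, hn]
  have hm := trick (T := Finset.univ.erase i) ⟨Or.inl hcard, hs, hs.mono (by omega)⟩ hg'T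
  have h2 := ((S.perm_mon τ).inv.mul ((S.eps_mon D).inv.mul hm))
  rwa [hg', inv_mul_cancel_left, inv_mul_cancel_left] at h2

/-- the centraliser of a sign change of two or four frame vectors is monomial -/
theorem cent_even {h : Iso} (hh : h ∈ S.M) {A : Finset (Fin n)} (hA : A.card = 2 ∨ A.card = 4)
    (hc : h * S.eps A = S.eps A * h) : S.Mon h := by
  rcases hA with hA | hA
  · exact cent_pair hn hs hh hA hc
  · exact cent_pair hn hs hh (A := Aᶜ) (by rw [Finset.card_compl, Fintype.card_fin, hA, hn])
      (eps_compl_comm hc)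

/-- an element carrying such a sign change to a sign change is monomial -/
theorem carry_six {g : Iso} (hg : g ∈ S.M) {A A' : Finset (Fin n)} (hA : A.card = 2 ∨ A.card = 4)
    (hc : g * S.eps A = S.eps A' * g) : S.Mon g := by
  have hcard := eps_card_eq hc
  obtain ⟨σ, hσ1, -, hσ⟩ := exists_even_perm (T := Finset.univ) (Finset.subset_univ A) (Finset.subset_univ A')
    hcard.symm (by omega)
  have hp := perm_mul_eps (S := S) σ A'
  rw [hσ] at hp
  have hm := cent_even hn hs (mul_mem (S.perm_mem hσ1) hg) hA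
    (by rw [mul_assoc, hc, ← mul_assoc, hp, mul_assoc])
  have := (S.perm_mon σ).inv.mul hm
  rwa [inv_mul_cancel_left] at this

end Setup

end Cfsg.Agent.Forms.Max.UnitFrame
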