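import Cfsg.Agent.Lib.Forms.Max.UnitFrame.Six.Cent

/-!
# Six frame vectors: conjugates of sign changes

If a conjugate of the sign change of two frame vectors is monomial, the conjugating element is monomial.
-/

set_option autoImplicit false
set_option linter.unusedSectionVars false
set_option linter.unusedSimpArgs false
set_option maxHeartbeats 1000000

namespace Cfsg.Agent.Forms.Max.UnitFrame

open Matrix Cfsg.Agent.Forms.QuadStd Cfsg.Agent.Forms.Reflections Cfsg.Agent.Classical.Orth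

variable {F : Type*} [Field F] [Fintype F] {ι : Type} [Fintype ι] [DecidableEq ι] {n : ℕ}
variable {Q : QuadraticForm F (ι → F)} {S : Setup Q n}

set_option quotPrecheck false in
local notation "Iso" => Cfsg.isometryGroup F ⇑Q

namespace PermTriple

/-- no three-cycle permutes three involutions in such a way -/
theorem false_of (hn : n = 6) {e f : Fin n} (hef : e ≠ f) {κ r p q s : Equiv.Perm (Fin n)}
    (hκ3 : κ * (κ * κ) = 1) (hκfix : ∀ i ∈ ({e, f} : Finset (Fin n)), κ i = i)
    (hri : ∀ i, r (r i) = i) (hrA : ∀ i, i ∈ ({e, f} : Finset (Fin n)) ↔ r i ∈ ({e, f} : Finset (Fin n)))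
    (hr1 : r ≠ 1)
    (hpi : ∀ i, p (p i) = i) (hpA : ∀ i, i ∈ ({e, f} : Finset (Fin n)) ↔ p i ∈ ({e, f} : Finset (Fin n)))
    (hp1 : p ≠ 1)
    (hqi : ∀ i, q (q i) = i) (hqA : ∀ i, i ∈ ({e, f} : Finset (Fin n)) ↔ q i ∈ ({e, f} : Finset (Fin n)))
    (hq1 : q ≠ 1) (hsi : ∀ i, s (s i) = i) (hs1 : s ≠ 1)
    (hrκ : r = κ * r * κ⁻¹) (hqκ : q = κ * p * κ⁻¹) (hsκ : s = κ * q * κ⁻¹) (hspq : s = p * q)
    (htfix : ∃ i, (r * p) i = i) : False := by
  classical
  -- the fixed vector of the three-cycle among the other four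
  set A : Finset (Fin n) := {e, f} with hAef
  have hκi : ∀ i, κ (κ (κ i)) = i := fun i => by
    have := Equiv.congr_fun hκ3 i; simpa using this
  have hκA : ∀ i, i ∈ A ↔ κ i ∈ A := fun i => by
    refine ⟨fun hi => by rwa [hκfix i hi], fun hi => ?_⟩
    rwa [κ.injective (hκfix _ hi)] at hi
  set U : Finset (Fin n) := Aᶜ with hU
  have hUc : U.card = 4 := by rw [hU, Finset.card_compl, Fintype.card_fin, Finset.card_pair hef, hn]
  have hκU : ∀ i, i ∈ U ↔ κ i ∈ U := fun i => by rw [hU, Finset.mem_compl, Finset.mem_compl, ← hκA]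
  -- a permutation commuting with the three-cycle fixes the other four
  have hrU : ∀ u ∈ U, r u = u := by
    intro u hu
    by_contra hne
    have hrκ' : ∀ i, r (κ i) = κ (r i) := fun i => by
      conv_lhs => rw [hrκ]
      simp
    have hru : r u ∈ U := by rw [hU, Finset.mem_compl] at hu ⊢; rwa [← hrA]
    by_cases hκu : κ u = u
    · have h1 : κ (r u) = r u := by rw [← hrκ', hκu]
      have hmod := Equiv.Perm.card_compl_support_modEq (α := Fin n) (p := 3) (n := 1) (σ := κ)
        (by rw [pow_one, pow_succ, pow_two, mul_assoc]; exact hκ3)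
      rw [Fintype.card_fin] at hmod
      have hall : ∀ i, κ i = i := by
        by_contra hc'
        push Not at hc'
        obtain ⟨i, hi⟩ := hc'
        have hsub : ({e, f, u, r u} : Finset (Fin n)) ⊆ κ.supportᶜ := fun j hj => by
          rw [Finset.mem_compl, Equiv.Perm.mem_support, not_not]
          simp at hj
          rcases hj with rfl | rfl | rfl | rfl
          exacts [hκfix _ (by simp [hAef]), hκfix _ (by simp [hAef]), hκu, h1]
        have h4 : ({e, f, u, r u} : Finset (Fin n)).card = 4 := by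
          rw [hU, hAef, Finset.mem_compl] at hu hru
          simp only [Finset.mem_insert, Finset.mem_singleton, not_or] at hu hru
          simp [hef, Ne.symm hu.1, Ne.symm hu.2, Ne.symm hru.1, Ne.symm hru.2, Ne.symm hne]
        have hlt : κ.supportᶜ.card < n := by
          calc _ < (Finset.univ : Finset (Fin n)).card := Finset.card_lt_card
                (Finset.ssubset_iff_subset_ne.2 ⟨Finset.subset_univ _, fun e1 => by
                  have := Finset.mem_univ i
                  rw [← e1, Finset.mem_compl, Equiv.Perm.mem_support, not_not] at this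
                  exact hi this⟩)
            _ = n := by rw [Finset.card_univ, Fintype.card_fin]
        have := Finset.card_le_card hsub
        unfold Nat.ModEq at hmod
        omega
      refine hq1 (Equiv.ext fun i => ?_)
      have e1 : κ = 1 := Equiv.ext hall
      have e2 : q = p := by rw [hqκ, e1]; simp
      have e3 : s = p := by rw [hsκ, e2, e1]; simp
      rw [e2] at hspq ⊢
      exact absurd (show p = 1 by
        have := hspq; rw [e3] at this; exact left_eq_mul.1 this) hp1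
    · have hκ2 : κ (κ u) ≠ u := fun e1 => hκu (by conv_rhs => rw [← hκi u, e1])
      have hcl' : ∀ v ∈ U, v = u ∨ v = κ u ∨ v = κ (κ u) ∨ κ v = v := by
        intro v hv
        by_contra hc'
        push Not at hc'
        obtain ⟨v1, v2, v3, v4⟩ := hc'
        have : ({u, κ u, κ (κ u), v, κ v} : Finset (Fin n)).card ≤ U.card := Finset.card_le_card (by
          intro j hj; simp at hj
          rcases hj with rfl | rfl | rfl | rfl | rfl
          exacts [hu, (hκU u).1 hu, (hκU _).1 ((hκU u).1 hu), hv, (hκU v).1 hv])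
        have w1 : κ v ≠ u := fun e1 => v3 (κ.injective (e1.trans (hκi u).symm))
        have w2 : κ v ≠ κ u := fun e1 => v1 (κ.injective e1)
        have w3 : κ v ≠ κ (κ u) := fun e1 => v2 (κ.injective e1)
        have w5 : κ u ≠ κ (κ u) := fun e1 => hκu (κ.injective e1).symm
        simp [Ne.symm hκu, Ne.symm hκ2, Ne.symm v1, Ne.symm v2, Ne.symm v3, Ne.symm v4, Ne.symm w1,
          Ne.symm w2, Ne.symm w3, w5, hUc] at this
      rcases hcl' (r u) hru with h1 | h1 | h1 | h1
      · exact hne h1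
      · have := hri u
        rw [h1, hrκ', h1] at this
        exact hκ2 this
      · have := hri u
        rw [h1, hrκ', hrκ', h1, hκi] at this
        exact hκu this
      · refine hκu (r.injective ?_)
        rw [hrκ', h1]
  have hre : r e = f := by
    have h1 : r e ∈ A := (hrA e).1 (by simp [hAef])
    simp [hAef] at h1
    refine h1.resolve_left fun h2 => hr1 (Equiv.ext fun i => ?_)
    by_cases hi : i ∈ U
    · exact hrU i hi
    · simp [hU, hAef] at hi
      by_cases hie : i = e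
      · subst hie; exact h2
      · rw [hi hie]
        have h3 : r f ∈ A := (hrA f).1 (by simp [hAef])
        simp [hAef] at h3
        exact h3.resolve_left fun h4 => hef (r.injective (h2.trans h4.symm))
  have hrf : r f = e := by rw [← hre, hri]
  -- the pairs fix the distinguished two
  have hqe : q e = κ (p e) := by
    rw [hqκ]; simp [show κ.symm e = e from by
      rw [Equiv.symm_apply_eq]; exact (hκfix e (by simp [hAef])).symm]
  have hpe : p e = e := by
    by_contra hne
    have h1 : p e ∈ A := (hpA e).1 (by simp [hAef])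
    simp [hAef] at h1
    have hpf := h1.resolve_left hne
    have hqf : q e = f := by rw [hqe, hpf]; exact hκfix f (by simp [hAef])
    have hse : s e = κ (q e) := by
      rw [hsκ]; simp [show κ.symm e = e from by
        rw [Equiv.symm_apply_eq]; exact (hκfix e (by simp [hAef])).symm]
    rw [hspq, Equiv.Perm.mul_apply, hqf, ← hpf, hpi, hκfix _ (by simp [hAef, hpf])] at hse
    exact hne hse.symm
  have hpf : p f = f := by
    have h1 : p f ∈ A := (hpA f).1 (by simp [hAef])
    simp [hAef] at h1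
    exact h1.resolve_left fun h2 => hef (p.injective (hpe.trans h2.symm))
  have hqe' : q e = e := by rw [hqe, hpe]; exact hκfix e (by simp [hAef])
  have hqf' : q f = f := by
    have h1 : q f ∈ A := (hqA f).1 (by simp [hAef])
    simp [hAef] at h1
    exact h1.resolve_left fun h2 => hef (q.injective (hqe'.trans h2.symm))
  obtain ⟨w, hw⟩ := htfix
  rw [Equiv.Perm.mul_apply] at hw
  have hwU : w ∈ U := by
    rw [hU, Finset.mem_compl]
    intro hwA
    simp [hAef] at hwA
    rcases hwA with rfl | rfl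
    · rw [hpe, hre] at hw; exact hef hw.symm
    · rw [hpf, hrf] at hw; exact hef hw
  have hpwU : p w ∈ U := by rw [hU, Finset.mem_compl] at hwU ⊢; rwa [← hpA]
  rw [hrU _ hpwU] at hw
  -- the moved sets of the pairs
  have hmove : ∀ {ψ : Equiv.Perm (Fin n)}, (∀ i, ψ (ψ i) = i) → ψ e = e → ψ f = f → ψ ≠ 1 →
      ∀ {v : Fin n}, v ∈ U → ψ v = v → ∀ {i : Fin n}, ψ i ≠ i → ∀ j, ψ j ≠ j → j = i ∨ j = ψ i := by
    intro ψ hψ h1 h2 _ v hv hψv i hi j hj
    by_contra hc'
    push Not at hc'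
    have hinU : ∀ k, ψ k ≠ k → k ∈ U := fun k hk => by
      rw [hU, Finset.mem_compl, hAef]; intro hk'; simp at hk'
      rcases hk' with rfl | rfl
      exacts [hk h1, hk h2]
    have hii : ψ (ψ i) ≠ ψ i := fun e1 => hi (ψ.injective e1)
    have hjj : ψ (ψ j) ≠ ψ j := fun e1 => hj (ψ.injective e1)
    have : ({i, ψ i, j, ψ j, v} : Finset (Fin n)).card ≤ U.card := Finset.card_le_card (by
      intro k hk; simp at hk
      rcases hk with rfl | rfl | rfl | rfl | rfl
      exacts [hinU _ hi, hinU _ hii, hinU _ hj, hinU _ hjj, hv])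
    have n1 : ψ j ≠ i := fun e1 => hc'.2 (by rw [← e1, hψ])
    have n2 : ψ j ≠ ψ i := fun e1 => hc'.1 (ψ.injective e1)
    have n3 : i ≠ v := fun e1 => hi (e1 ▸ hψv)
    have n4 : j ≠ v := fun e1 => hj (e1 ▸ hψv)
    have n5 : ψ i ≠ v := fun e1 => hi (e1.trans ((hψ i).symm.trans ((congrArg ψ e1).trans hψv)).symm)
    have n6 : ψ j ≠ v := fun e1 => hj (e1.trans ((hψ j).symm.trans ((congrArg ψ e1).trans hψv)).symm)
    simp [Ne.symm hi, Ne.symm hj, Ne.symm hc'.1, Ne.symm hc'.2, Ne.symm n1, Ne.symm n2, n3, n4, n5, n6, hUc]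
      at this
  set w' := κ w with hw'
  have hqw : q w' = w' := by rw [hqκ, hw']; simp [hw]
  have hw'U : w' ∈ U := (hκU w).1 hwU
  set w'' := κ w' with hw''
  have hsw : s w'' = w'' := by rw [hsκ, hw'']; simp [hqw]
  have hw''U : w'' ∈ U := (hκU w').1 hw'U
  by_cases hex : ∃ u, p u ≠ u ∧ q u ≠ u
  · obtain ⟨u, hu1, hu2⟩ := hex
    have hcomm : ∀ i, p (q i) = q (p i) := fun i => by
      have h1 := hsi i
      rw [hspq, Equiv.Perm.mul_apply, Equiv.Perm.mul_apply] at h1
      have h2 := congrArg q (congrArg p h1)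
      rw [hpi, hqi] at h2
      exact h2
    refine hs1 (Equiv.ext fun i => ?_)
    rw [hspq, Equiv.Perm.mul_apply, Equiv.Perm.one_apply]
    have hsame' : ∀ j, p j ≠ j → q j = p j := by
      have hqu : q u = p u := by
        refine (hmove hpi hpe hpf hp1 hwU hw hu1 (q u) ?_).resolve_left hu2
        rw [hcomm]; exact fun e1 => hu1 (q.injective e1)
      intro j hj
      rcases hmove hpi hpe hpf hp1 hwU hw hu1 j hj with rfl | rfl
      · exact hqu
      · rw [← hqu, hqi, hqu, hpi]
    by_cases hqi' : q i = i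
    · rw [hqi']
      by_contra hne
      exact hne ((hsame' i hne).symm.trans hqi')
    · have hqu : q u = p u := hsame' u hu1
      rcases hmove hqi hqe' hqf' hq1 hw'U hqw hu2 i hqi' with rfl | rfl
      · rw [hqu, hpi]
      · rw [hqi, hqu]
  · push Not at hex
    obtain ⟨u, hu⟩ : ∃ u, p u ≠ u := by
      by_contra h0; push Not at h0; exact hp1 (Equiv.ext h0)
    obtain ⟨v, hv⟩ : ∃ v, q v ≠ v := by
      by_contra h0; push Not at h0; exact hq1 (Equiv.ext h0)
    have hu2 : p (p u) ≠ p u := fun e1 => hu (p.injective e1)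
    have hv2 : q (q v) ≠ q v := fun e1 => hv (q.injective e1)
    have hpU : ∀ k, p k ≠ k → k ∈ U := fun k hk => by
      rw [hU, Finset.mem_compl, hAef]; intro hk'; simp at hk'
      rcases hk' with rfl | rfl
      exacts [hk hpe, hk hpf]
    have hqU : ∀ k, q k ≠ k → k ∈ U := fun k hk => by
      rw [hU, Finset.mem_compl, hAef]; intro hk'; simp at hk'
      rcases hk' with rfl | rfl
      exacts [hk hqe', hk hqf']
    have d : ∀ {k k'}, p k ≠ k → q k' ≠ k' → k ≠ k' := fun hk hk' e1 => hk' (e1 ▸ hex _ hk)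
    have hall : ({u, p u, v, q v} : Finset (Fin n)) = U := by
      refine Finset.eq_of_subset_of_card_le (fun k hk => ?_) ?_
      · simp at hk; rcases hk with rfl | rfl | rfl | rfl
        exacts [hpU _ hu, hpU _ hu2, hqU _ hv, hqU _ hv2]
      · simp [hUc, Ne.symm hu, Ne.symm hv, d hu hv, d hu hv2, d hu2 hv, d hu2 hv2]
    rw [← hall] at hw''U
    simp at hw''U
    rw [hspq, Equiv.Perm.mul_apply] at hsw
    rcases hw''U with h1 | h1 | h1 | h1 <;> rw [h1] at hsw
    · rw [hex u hu] at hsw; exact hu hsw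
    · rw [hex _ hu2, hpi] at hsw; exact hu hsw.symm
    · have hfix : p (q v) = q v := by by_contra h0; exact hv2 (hex _ h0)
      rw [hfix] at hsw; exact hv hsw
    · have hfix : p v = v := by by_contra h0; exact hv (hex _ h0)
      rw [hqi, hfix] at hsw; exact hv hsw.symm

end PermTriple

namespace Setup

/-- a coordinate of an image under a monomial element -/
theorem IsPerm.coord {x : Iso} {π : Equiv.Perm (Fin n)} (h : S.IsPerm x π) (i : Fin n) :
    ∃ s : F, s * s = 1 ∧ S.img x (Pi.single i 1) = s • Pi.single (π i) 1 ∧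
      ∀ v, S.img x v (π i) = s * v i := by
  obtain ⟨s, hs1, hs⟩ := h i
  refine ⟨s, hs1, hs, fun v => ?_⟩
  rw [← dot_single (π i) (S.img x v), ← dot_single i v]
  have e : Pi.single (π i) (1 : F) = s • S.img x (Pi.single i 1) := by rw [hs, smul_smul, hs1, one_smul]
  conv_lhs => rw [e]
  rw [dot_smul_left, dot_img]

/-- monomial involutions induce involutions -/
theorem IsPerm.invol {x : Iso} {π : Equiv.Perm (Fin n)} (h : S.IsPerm x π) (hx : x * x = 1) (i : Fin n) :
    π (π i) = i := by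
  have h1 : π * π = 1 := (IsPerm.mul h h).unique (hx.symm ▸ IsPerm.one)
  rw [← Equiv.Perm.mul_apply, h1]; rfl

theorem conj_sq {g : Iso} (A : Finset (Fin n)) :
    g * S.eps A * g⁻¹ * (g * S.eps A * g⁻¹) = 1 := by
  rw [show g * S.eps A * g⁻¹ * (g * S.eps A * g⁻¹) = g * (S.eps A * S.eps A) * g⁻¹ by group, eps_sq, mul_one,
    mul_inv_cancel]

theorem back_sq {g : Iso} (A : Finset (Fin n)) :
    g⁻¹ * S.eps A * g * (g⁻¹ * S.eps A * g) = 1 := by
  rw [show g⁻¹ * S.eps A * g * (g⁻¹ * S.eps A * g) = g⁻¹ * (S.eps A * S.eps A) * g by group, eps_sq, mul_one,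
    inv_mul_cancel]

variable (hn : n = 6) (hs : S.Small 4) (hM : S.M ≤ Cfsg.Omega F ⇑Q)
include hn hs hM

omit hs hM in
theorem tr_eps_two {A : Finset (Fin n)} (hA : A.card = 2) : S.tr (S.eps A) = 2 := by
  subst hn; rw [tr_eps, hA]; norm_num

omit hs hM in
theorem tr_eps_ne {A : Finset (Fin n)} (hA : A.card = 2 ∨ A.card = 4) : S.tr (S.eps A) ≠ 0 := by
  subst hn
  rw [tr_eps]
  rcases hA with hA | hA <;> rw [hA] <;> norm_num
  · exact S.two
  · exact S.two

/-- the image of a sign change commuting with a monomial conjugate -/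
theorem back {g : Iso} (hg : g ∈ S.M) (hng : ¬ S.Mon g) {A : Finset (Fin n)} (hA : A.card = 2)
    {X : Finset (Fin n)} (hX : X.card = 2 ∨ X.card = 4)
    (hc : g * S.eps A * g⁻¹ * S.eps X = S.eps X * (g * S.eps A * g⁻¹)) :
    ∃ ψ, S.IsPerm (g⁻¹ * S.eps X * g) ψ ∧ ψ ≠ 1 ∧ (∀ i, ψ (ψ i) = i) ∧ (∀ i, i ∈ A ↔ ψ i ∈ A) ∧
      ∃ i, ψ i = i := by
  classical
  set m := g⁻¹ * S.eps X * g with hm
  have hXe : Even X.card := by rcases hX with h | h <;> rw [h] <;> decide
  have hmM : m ∈ S.M := mul_mem (mul_mem (inv_mem hg) (S.eps_mem hXe)) hg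
  have hcm : m * S.eps A = S.eps A * m := by
    rw [hm, show g⁻¹ * S.eps X * g * S.eps A = g⁻¹ * (S.eps X * (g * S.eps A * g⁻¹)) * g by group, ← hc]
    group
  obtain ⟨ψ, hψ⟩ := S.mon_exists_perm (cent_pair hn hs hmM hA hcm)
  refine ⟨ψ, hψ, fun h1 => ?_, fun i => IsPerm.invol hψ (back_sq X) i, fun i => ?_, ?_⟩
  · obtain ⟨D, hD⟩ := IsPerm.eq_eps (S := S) (h1 ▸ hψ)
    have hgD : g * S.eps D = S.eps X * g := by rw [← hD, hm]; group
    exact hng (carry_six hn hs hg (eps_card_eq hgD ▸ hX) hgD)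
  · have hmap := S.conj_eps hψ A
    rw [hcm, mul_inv_cancel_right] at hmap
    have := eps_injective S hmap
    conv_rhs => rw [this]
    simp
  · refine IsPerm.exists_fixed hψ ?_
    have := S.tr_conj g⁻¹ (S.eps X)
    rw [inv_inv] at this
    rw [hm, this]
    exact tr_eps_ne hn hX

/-- a monomial conjugate moves at least four frame vectors -/
theorem not_transposition {g : Iso} (hg : g ∈ S.M) (hng : ¬ S.Mon g) {A : Finset (Fin n)} (hA : A.card = 2)
    {π : Equiv.Perm (Fin n)} (hπ : S.IsPerm (g * S.eps A * g⁻¹) π) {a b : Fin n} (hab : a ≠ b)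
    (hπab : π = Equiv.swap a b) : False := by
  classical
  set x := g * S.eps A * g⁻¹ with hx
  have hAe : Even A.card := by rw [hA]; exact even_two
  have hxM : x ∈ S.M := mul_mem (mul_mem hg (S.eps_mem hAe)) (inv_mem hg)
  have hx2 : x * x = 1 := conj_sq A
  obtain ⟨X, hXe⟩ := IsPerm.exists_eps hπ
  have hodd : Odd X.card := by
    rcases Nat.even_or_odd X.card with he | ho
    · exfalso
      have h1 := S.det_omega (hM hxM)
      rw [hXe, map_mul, Matrix.det_mul, det_eps, det_perm, he.neg_one_pow, hπab,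
        Equiv.Perm.sign_swap hab] at h1
      push_cast at h1
      exact S.two (by linear_combination -h1)
    · exact ho
  have hXinv : X.map π.toEmbedding = X := by
    have h1 := hx2
    rw [hXe, show S.eps X * S.perm π * (S.eps X * S.perm π) = S.eps X * (S.perm π * S.eps X) * S.perm π by group,
      perm_mul_eps, ← mul_assoc, eps_mul, mul_assoc, ← perm_mul, hπab, Equiv.swap_mul_self, perm_one, mul_one,
      ← eps_empty] at h1
    have h2 := eps_injective S h1
    rw [← hπab, ← Finset.bot_eq_empty, symmDiff_eq_bot] at h2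
    exact h2.symm
  have hXab : a ∈ X ↔ b ∈ X := by
    conv_rhs => rw [← hXinv, Finset.mem_map_equiv, hπab]
    simp
  -- three fixed vectors with the same sign
  set Fx : Finset (Fin n) := ({a, b} : Finset (Fin n))ᶜ with hFx
  have hFc : Fx.card = 4 := by rw [hFx, Finset.card_compl, Fintype.card_fin, Finset.card_pair hab, hn]
  obtain ⟨c, d, l, hcd, hcl, hdl, hcF, hdF, hlF, hsame⟩ : ∃ c d l, c ≠ d ∧ c ≠ l ∧ d ≠ l ∧
      c ∈ Fx ∧ d ∈ Fx ∧ l ∈ Fx ∧ ((c ∈ X ↔ d ∈ X) ∧ (d ∈ X ↔ l ∈ X)) := by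
    have hsplit : (Fx.filter (· ∈ X)).card + (({a, b} : Finset (Fin n)).filter (· ∈ X)).card = X.card := by
      rw [← Finset.card_union_of_disjoint]
      · congr 1
        ext i
        simp only [hFx, Finset.mem_union, Finset.mem_filter, Finset.mem_compl]
        tauto
      · exact Finset.disjoint_filter_filter (Finset.disjoint_left.2 fun i hi hi' => by
          rw [hFx, Finset.mem_compl] at hi; exact hi hi')
    have hev : Even (({a, b} : Finset (Fin n)).filter (· ∈ X)).card := by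
      by_cases ha : a ∈ X
      · rw [Finset.filter_true_of_mem (by simp [ha, hXab.1 ha]), Finset.card_pair hab]; exact even_two
      · rw [Finset.filter_false_of_mem (by simp [ha, mt hXab.2 ha])]; exact ⟨0, rfl⟩
    rw [← hsplit, Nat.odd_add] at hodd
    have ho := hodd.2 hev
    have htot := Finset.card_filter_add_card_filter_not (s := Fx) (· ∈ X)
    have hle : (Fx.filter (· ∈ X)).card = 3 ∨ (Fx.filter (· ∉ X)).card = 3 := by
      obtain ⟨k, hk⟩ := ho; omega
    rcases hle with h | h <;> obtain ⟨c, d, l, hcd, hcl, hdl, he⟩ := Finset.card_eq_three.1 h <;>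
      refine ⟨c, d, l, hcd, hcl, hdl, ?_⟩ <;>
      have hc := Finset.ext_iff.1 he c <;> have hd := Finset.ext_iff.1 he d <;> have hl := Finset.ext_iff.1 he l <;>
      simp at hc hd hl <;> simp [hc, hd, hl]
  simp only [hFx, Finset.mem_compl, Finset.mem_insert, Finset.mem_singleton, not_or] at hcF hdF hlF
  set σ : Equiv.Perm (Fin n) := Equiv.swap c d * Equiv.swap d l with hσ
  have hσ1 : Equiv.Perm.sign σ = 1 := by
    rw [hσ, map_mul, Equiv.Perm.sign_swap hcd, Equiv.Perm.sign_swap hdl, Int.units_mul_self]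
  have hσc : σ c = d := by
    rw [hσ, Equiv.Perm.mul_apply, Equiv.swap_apply_of_ne_of_ne hcd hcl, Equiv.swap_apply_left]
  have hσd : σ d = l := by
    rw [hσ, Equiv.Perm.mul_apply, Equiv.swap_apply_left, Equiv.swap_apply_of_ne_of_ne hcl.symm hdl.symm]
  have hσl : σ l = c := by
    rw [hσ, Equiv.Perm.mul_apply, Equiv.swap_apply_right, Equiv.swap_apply_right]
  have hσo : ∀ i, i ≠ c → i ≠ d → i ≠ l → σ i = i := fun i h1 h2 h3 => by
    rw [hσ, Equiv.Perm.mul_apply, Equiv.swap_apply_of_ne_of_ne h2 h3, Equiv.swap_apply_of_ne_of_ne h1 h2]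
  have hσ3 : σ * (σ * σ) = 1 := Equiv.ext fun i => by
    simp only [Equiv.Perm.mul_apply, Equiv.Perm.one_apply]
    by_cases h1 : i = c
    · subst h1; rw [hσc, hσd, hσl]
    by_cases h2 : i = d
    · subst h2; rw [hσd, hσl, hσc]
    by_cases h3 : i = l
    · subst h3; rw [hσl, hσc, hσd]
    rw [hσo i h1 h2 h3, hσo i h1 h2 h3, hσo i h1 h2 h3]
  have hσX : X.map σ.toEmbedding = X := by
    refine Finset.eq_of_subset_of_card_le (fun j hj => ?_) (by rw [Finset.card_map])
    obtain ⟨i, hi, rfl⟩ := Finset.mem_map.1 hj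
    show σ i ∈ X
    by_cases h1 : i = c
    · subst h1; rw [hσc]; exact hsame.1.1 hi
    by_cases h2 : i = d
    · subst h2; rw [hσd]; exact hsame.2.1 hi
    by_cases h3 : i = l
    · subst h3; rw [hσl]; exact hsame.1.2 (hsame.2.2 hi)
    rwa [hσo i h1 h2 h3]
  have hσπ : σ * π = π * σ := by
    refine Equiv.ext fun i => ?_
    rw [hπab]
    show σ (Equiv.swap a b i) = Equiv.swap a b (σ i)
    by_cases h1 : i = a
    · subst h1
      rw [Equiv.swap_apply_left, hσo i (Ne.symm hcF.1) (Ne.symm hdF.1) (Ne.symm hlF.1), Equiv.swap_apply_left,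
        hσo b (Ne.symm hcF.2) (Ne.symm hdF.2) (Ne.symm hlF.2)]
    by_cases h2 : i = b
    · subst h2
      rw [Equiv.swap_apply_right, hσo a (Ne.symm hcF.1) (Ne.symm hdF.1) (Ne.symm hlF.1),
        hσo i (Ne.symm hcF.2) (Ne.symm hdF.2) (Ne.symm hlF.2), Equiv.swap_apply_right]
    rw [Equiv.swap_apply_of_ne_of_ne h1 h2]
    have h1' : σ i ≠ a := fun e => h1 (σ.injective
      (e.trans (hσo a (Ne.symm hcF.1) (Ne.symm hdF.1) (Ne.symm hlF.1)).symm))
    have h2' : σ i ≠ b := fun e => h2 (σ.injective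
      (e.trans (hσo b (Ne.symm hcF.2) (Ne.symm hdF.2) (Ne.symm hlF.2)).symm))
    rw [Equiv.swap_apply_of_ne_of_ne h1' h2']
  have hcσ : x * S.perm σ = S.perm σ * x := by
    rw [hXe, ← mul_assoc, perm_mul_eps, hσX, mul_assoc, mul_assoc, ← perm_mul, ← perm_mul, hσπ]
  -- its conjugate
  set h := g⁻¹ * S.perm σ * g with hh
  have hhM : h ∈ S.M := mul_mem (mul_mem (inv_mem hg) (S.perm_mem hσ1)) hg
  have hhc : h * S.eps A = S.eps A * h := by
    rw [hh, show g⁻¹ * S.perm σ * g * S.eps A = g⁻¹ * (S.perm σ * x) * g by rw [hx]; group, ← hcσ, hx]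
    group
  obtain ⟨κ, hκ⟩ := S.mon_exists_perm (cent_pair hn hs hhM hA hhc)
  have hκ3 : κ * (κ * κ) = 1 := by
    refine (IsPerm.mul (S := S) hκ (IsPerm.mul hκ hκ)).unique ?_
    rw [hh, show g⁻¹ * S.perm σ * g * (g⁻¹ * S.perm σ * g * (g⁻¹ * S.perm σ * g)) =
      g⁻¹ * (S.perm σ * (S.perm σ * S.perm σ)) * g by group, ← perm_mul, ← perm_mul, hσ3, perm_one, mul_one,
      inv_mul_cancel]
    exact IsPerm.one
  have hκA : ∀ i, i ∈ A ↔ κ i ∈ A := fun i => by
    have hmap := S.conj_eps hκ A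
    rw [hhc, mul_inv_cancel_right] at hmap
    conv_rhs => rw [eps_injective S hmap]
    simp
  have hκi : ∀ i, κ (κ (κ i)) = i := fun i => by
    have := Equiv.congr_fun hκ3 i; simpa using this
  obtain ⟨e, f, hef, hAef⟩ := Finset.card_eq_two.1 hA
  have hκfix : ∀ i ∈ A, κ i = i := fun i hi => by
    by_contra hne
    have h1 := (hκA i).1 hi
    have h2 := (hκA _).1 h1
    have h3 := hκi i
    rw [hAef] at hi h1 h2
    simp at hi h1 h2
    rcases hi with rfl | rfl <;> rcases h1 with h1 | h1 <;> first | exact hne h1 | skip <;>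
      rcases h2 with h2 | h2 <;> simp_all
  -- the three pairs
  have hpairX : ∀ {p q : Fin n}, p ≠ q → ({p, q} : Finset (Fin n)).map π.toEmbedding = {p, q} →
      ∃ ψ, S.IsPerm (g⁻¹ * S.eps {p, q} * g) ψ ∧ ψ ≠ 1 ∧ (∀ i, ψ (ψ i) = i) ∧ (∀ i, i ∈ A ↔ ψ i ∈ A) ∧
        ∃ i, ψ i = i := fun {p q} hpq hmap => back hn hs hM hg hng hA (Or.inl (Finset.card_pair hpq)) (by
      have := S.conj_eps hπ {p, q}
      rwa [hmap, mul_inv_eq_iff_eq_mul] at this)
  have hfixpair : ∀ {p q : Fin n}, p ≠ a → p ≠ b → q ≠ a → q ≠ b →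
      ({p, q} : Finset (Fin n)).map π.toEmbedding = {p, q} := fun h1 h2 h3 h4 => by
    rw [Finset.map_insert, Finset.map_singleton, hπab]
    simp [Equiv.swap_apply_of_ne_of_ne h1 h2, Equiv.swap_apply_of_ne_of_ne h3 h4]
  have habmap : ({a, b} : Finset (Fin n)).map π.toEmbedding = {a, b} := by
    rw [Finset.map_insert, Finset.map_singleton, hπab]
    simp [Finset.pair_comm]
  obtain ⟨r, hr, hr1, hri, hrA, -⟩ := hpairX hab habmap
  obtain ⟨p, hp, hp1, hpi, hpA, -⟩ := hpairX hcd (hfixpair hcF.1 hcF.2 hdF.1 hdF.2)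
  obtain ⟨q, hq, hq1, hqi, hqA, -⟩ := hpairX hdl (hfixpair hdF.1 hdF.2 hlF.1 hlF.2)
  obtain ⟨s, hsP, hs1, hsi, hsA, -⟩ := hpairX hcl (hfixpair hcF.1 hcF.2 hlF.1 hlF.2)
  obtain ⟨t, ht, -, -, -, htfix⟩ := back hn hs hM hg hng hA (X := ({a, b} : Finset (Fin n)) ∪ {c, d})
    (Or.inr (by rw [Finset.card_union_of_disjoint (by simp [hcF.1, hcF.2, hdF.1,
      hdF.2]), Finset.card_pair hab, Finset.card_pair hcd]))
    (by
      have := S.conj_eps hπ (({a, b} : Finset (Fin n)) ∪ {c, d})
      rwa [Finset.map_union, habmap, hfixpair hcF.1 hcF.2 hdF.1 hdF.2, mul_inv_eq_iff_eq_mul] at this)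
  have hconjκ : ∀ {P P' : Finset (Fin n)} {ψ ψ' : Equiv.Perm (Fin n)}, P.map σ.toEmbedding = P' →
      S.IsPerm (g⁻¹ * S.eps P * g) ψ → S.IsPerm (g⁻¹ * S.eps P' * g) ψ' → ψ' = κ * ψ * κ⁻¹ :=
    fun {P P' ψ ψ'} hmap hψ hψ' => by
    refine IsPerm.unique hψ' ?_
    have e : g⁻¹ * S.eps P' * g = h * (g⁻¹ * S.eps P * g) * h⁻¹ := by
      rw [hh, ← hmap, ← S.perm_conj_eps σ P]; group
    rw [e]
    exact (IsPerm.mul hκ hψ).mul (IsPerm.inv hκ)
  have hab' : σ a = a ∧ σ b = b := ⟨hσo a (Ne.symm hcF.1) (Ne.symm hdF.1) (Ne.symm hlF.1),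
    hσo b (Ne.symm hcF.2) (Ne.symm hdF.2) (Ne.symm hlF.2)⟩
  have hrκ : r = κ * r * κ⁻¹ := hconjκ (by rw [Finset.map_insert, Finset.map_singleton]; simp [hab'.1, hab'.2]) hr hr
  have hqκ : q = κ * p * κ⁻¹ := hconjκ (by rw [Finset.map_insert, Finset.map_singleton]; simp [hσc, hσd]) hp hq
  have hsκ : s = κ * q * κ⁻¹ := hconjκ (by rw [Finset.map_insert, Finset.map_singleton]; simp [hσd, hσl, Finset.pair_comm]) hq hsP
  have hprod : ∀ {P P' : Finset (Fin n)} {ψ ψ' ψ'' : Equiv.Perm (Fin n)}, S.IsPerm (g⁻¹ * S.eps P * g) ψ →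
      S.IsPerm (g⁻¹ * S.eps P' * g) ψ' → S.IsPerm (g⁻¹ * S.eps (symmDiff P P') * g) ψ'' → ψ'' = ψ * ψ' :=
    fun {P P' ψ ψ' ψ''} h1 h2 h3 => by
    refine IsPerm.unique h3 ?_
    rw [← eps_mul, show g⁻¹ * (S.eps P * S.eps P') * g = g⁻¹ * S.eps P * g * (g⁻¹ * S.eps P' * g) by group]
    exact IsPerm.mul h1 h2
  have hsd : symmDiff ({c, d} : Finset (Fin n)) {d, l} = {c, l} := by
    ext i
    simp only [Finset.mem_symmDiff, Finset.mem_insert, Finset.mem_singleton]
    constructor
    · rintro (⟨h1 | h1, h2⟩ | ⟨h1 | h1, h2⟩)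
      · exact Or.inl h1
      · exact absurd (Or.inl h1) h2
      · exact absurd (Or.inr h1) h2
      · exact Or.inr h1
    · rintro (h1 | h1) <;> subst h1
      · exact Or.inl ⟨Or.inl rfl, by simp [hcd, hcl]⟩
      · exact Or.inr ⟨Or.inr rfl, by simp [hcl.symm, hdl.symm]⟩
  have hspq : s = p * q := hprod hp hq (hsd.symm ▸ hsP)
  have htrp : t = r * p := hprod hr hp (by
    rw [show symmDiff ({a, b} : Finset (Fin n)) {c, d} = {a, b} ∪ {c, d} by
      rw [Disjoint.symmDiff_eq_sup]; · rfl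
      simp [hcF.1, hcF.2, hdF.1, hdF.2]]
    exact ht)
  exact PermTriple.false_of hn hef hκ3 (fun i hi => hκfix i (by simpa [hAef] using hi)) hri
    (fun i => by simpa [hAef] using hrA i) hr1 hpi (fun i => by simpa [hAef] using hpA i) hp1 hqi
    (fun i => by simpa [hAef] using hqA i) hq1 hsi hs1 hrκ hqκ hsκ hspq (htrp ▸ htfix)

end Setup

end Cfsg.Agent.Forms.Max.UnitFrame
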