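import Cfsg.Agent.Lib.Forms.Max.UnitFrame.Six.Pairs

/-!
# Six frame vectors: without members of small support everything is monomial
-/

set_option autoImplicit false
set_option linter.unusedSectionVars false
set_option linter.unusedSimpArgs false
set_option maxHeartbeats 1000000

namespace Cfsg.Agent.Forms.Max.UnitFrame

open Matrix Cfsg.Agent.Forms.QuadStd Cfsg.Agent.Forms.Reflections Cfsg.Agent.Classical.Orth

variable {F : Type*} [Field F] [Fintype F] {ι : Type} [Fintype ι] [DecidableEq ι] {n : ℕ}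
variable {Q : QuadraticForm F (ι → F)} {S : Setup Q n}

set_option quotPrecheck false in
local notation "Iso" => Cfsg.isometryGroup F ⇑Q

namespace Setup

theorem comm_of_closure {e f d : Iso} (hde : d * e = e * d) (hdf : d * f = f * d) :
    ∀ u ∈ Subgroup.closure ({e, f} : Set Iso), d * u = u * d := fun u hu => by
  induction hu using Subgroup.closure_induction with
  | mem y hy => simp at hy; rcases hy with rfl | rfl; exacts [hde, hdf]
  | one => simp
  | mul a b _ _ ha hb => rw [← mul_assoc, ha, mul_assoc, hb, mul_assoc]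
  | inv a _ ha => exact ((show Commute d a from ha).inv_right).eq

theorem closure_pair_le {e f : Iso} (he : e ∈ S.M) (hf : f ∈ S.M) :
    Subgroup.closure ({e, f} : Set Iso) ≤ S.M :=
  (Subgroup.closure_le _).2 fun y hy => by simp at hy; rcases hy with rfl | rfl <;> assumption

theorem tr_neg_univ (g : Iso) : S.tr (S.eps Finset.univ * g) = -S.tr g := by
  have e : ∀ i, S.img (S.eps Finset.univ * g) (Pi.single i 1) i = -S.img g (Pi.single i 1) i := fun i => by
    rw [img_mul, img_eps, if_pos (Finset.mem_univ i)]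
  rw [tr, Finset.sum_congr rfl fun i _ => e i, Finset.sum_neg_distrib]
  rfl

variable (hn : n = 6) (hs : S.Small 4) (hM : S.M ≤ Cfsg.Omega F ⇑Q)
include hn hs hM

/-- two sign changes of pairs and conjugates thereof are conjugate in the group they generate -/
theorem odd_pairs {g : Iso} (hg : g ∈ S.M) (hng : ¬ S.Mon g) {P P' : Finset (Fin n)} (hP : P.card = 2)
    (hP' : P'.card = 2) :
    ∃ u ∈ Subgroup.closure ({S.eps P, g * S.eps P' * g⁻¹} : Set Iso),
      S.Mon (u * g) ∧ u * g * S.eps P' = S.eps P * (u * g) := by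
  classical
  set f := g * S.eps P' * g⁻¹ with hfdef
  have hPM : S.eps P ∈ S.M := S.eps_mem (by rw [hP]; exact even_two)
  have hfM : f ∈ S.M := mul_mem (mul_mem hg (S.eps_mem (by rw [hP']; exact even_two))) (inv_mem hg)
  have hle := closure_pair_le hPM hfM
  rcases dihedral (S.eps_sq P) (conj_sq (S := S) (g := g) P') with ⟨u, hu, he⟩ | ⟨d, hdD, u, hu, -, hd1, hde, hdf, hcase⟩
  · have hc : u * g * S.eps P' = S.eps P * (u * g) := by rw [he]; group
    exact ⟨u, hu, carry_six hn hs (mul_mem (hle hu) hg) (Or.inl hP') hc, hc⟩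
  exfalso
  have hdM := hle hdD
  have hdm : S.Mon d := cent_pair hn hs hdM hP hde
  set d' := g⁻¹ * d * g with hd'
  have hd'M : d' ∈ S.M := mul_mem (mul_mem (inv_mem hg) hdM) hg
  have hd'c : d' * S.eps P' = S.eps P' * d' := by
    have e1 : S.eps P' = g⁻¹ * f * g := by rw [hfdef]; group
    rw [hd', e1, show g⁻¹ * d * g * (g⁻¹ * f * g) = g⁻¹ * (d * f) * g by group,
      show g⁻¹ * f * g * (g⁻¹ * d * g) = g⁻¹ * (f * d) * g by group, hdf]
  have hd'm : S.Mon d' := cent_pair hn hs hd'M hP' hd'c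
  have key : ∀ {w : Iso} {B : Finset (Fin n)}, w ∈ S.M → B.card = 2 → w * S.eps B * w⁻¹ = d' * S.eps P' → False := by
    intro w B hw hB he
    have hwm := conj_mon_two hn hs hM hw hB (he ▸ hd'm.mul (S.eps_mon P'))
    obtain ⟨X, hXc, hX⟩ := S.mon_conj_eps hwm B
    have hD : d' = S.eps (symmDiff X P') := by rw [← eps_mul, ← hX, he, mul_assoc, eps_sq, mul_one]
    have h1 := card_symmDiff' X P'
    rcases Finset.eq_empty_or_nonempty (symmDiff X P') with h0 | h0
    · rw [h0, eps_empty] at hD
      exact hd1 (by rw [show d = g * d' * g⁻¹ by rw [hd']; group, hD]; group)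
    refine hng (conj_mon_six hn hs hM hg (A := symmDiff X P') ?_ ?_)
    · have h2 := h0.card_pos
      omega
    · rw [← hD, show g * d' * g⁻¹ = d by rw [hd']; group]
      exact hdm
  have hdf' : g⁻¹ * (d * f) * g = d' * S.eps P' := by rw [hfdef, hd']; group
  rcases hcase with hcase | hcase
  · refine key (w := g⁻¹ * u * g) (mul_mem (mul_mem (inv_mem hg) (hle hu)) hg) hP' ?_
    rw [← hdf', ← hcase]; group
  · refine key (w := g⁻¹ * u⁻¹) (mul_mem (inv_mem hg) (inv_mem (hle hu))) hP ?_
    rw [← hdf', ← hcase, hfdef]; group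

/-- centralisers of monomial involutions moving frame lines are monomial -/
theorem cent_perm {d : Iso} (hd : d ∈ S.M) (hd2 : d * d = 1) {π : Equiv.Perm (Fin n)} (hπ : S.IsPerm d π)
    (hπ1 : π ≠ 1) {m : Iso} (hm : m ∈ S.M) (hc : m * d = d * m) : S.Mon m := by
  classical
  by_contra hnm
  have hπi : ∀ i, π (π i) = i := IsPerm.invol hπ hd2
  obtain ⟨a, ha⟩ : ∃ a, π a ≠ a := by
    by_contra h0; push Not at h0; exact hπ1 (Equiv.ext h0)
  obtain ⟨p, q, hpq, hp, hq⟩ : ∃ p q, p ≠ q ∧ π p = p ∧ π q = q := by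
    by_contra h0
    push Not at h0
    have hfpf : ∀ i, π i ≠ i := by
      intro i hi
      have hmod := Equiv.Perm.card_compl_support_modEq (α := Fin n) (p := 2) (n := 1) (σ := π)
        (by rw [pow_one, pow_two]; exact Equiv.ext fun j => hπi j)
      rw [Fintype.card_fin] at hmod
      have : π.supportᶜ = {i} := Finset.eq_singleton_iff_unique_mem.2
        ⟨by rw [Finset.mem_compl, Equiv.Perm.mem_support, not_not]; exact hi,
          fun j hj => by
            rw [Finset.mem_compl, Equiv.Perm.mem_support, not_not] at hj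
            by_contra hne
            exact h0 j i hne hj hi⟩
      rw [this, Finset.card_singleton] at hmod
      unfold Nat.ModEq at hmod
      omega
    obtain ⟨b, hb, hbb⟩ : ∃ b, b ≠ a ∧ b ≠ π a := by
      obtain ⟨b, hb⟩ := Finset.card_pos.1 (show 0 < ({a, π a} : Finset (Fin n))ᶜ.card by
        rw [Finset.card_compl, Fintype.card_fin, Finset.card_pair (Ne.symm ha), hn]; norm_num)
      simp at hb
      exact ⟨b, hb.1, hb.2⟩
    have hb1 : π b ≠ a := fun e1 => hbb (by rw [← e1, hπi])
    have hb2 : π b ≠ π a := fun e1 => hb (π.injective e1)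
    obtain ⟨c, hc⟩ := Finset.card_pos.1 (show 0 < ({a, π a, b, π b} : Finset (Fin n))ᶜ.card by
      rw [Finset.card_compl, Fintype.card_fin]
      simp [Ne.symm ha, Ne.symm hb, Ne.symm hbb, Ne.symm hb1, Ne.symm hb2, Ne.symm (hfpf b), hn])
    simp at hc
    obtain ⟨hca, hcpa, hcb, hcpb⟩ := hc
    have hc1 : π c ≠ a := fun e1 => hcpa (by rw [← e1, hπi])
    have hc2 : π c ≠ π a := fun e1 => hca (π.injective e1)
    have hc3 : π c ≠ b := fun e1 => hcpb (by rw [← e1, hπi])
    have hc4 : π c ≠ π b := fun e1 => hcb (π.injective e1)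
    have huniv : ({a, π a, b, π b, c, π c} : Finset (Fin n)) = Finset.univ :=
      Finset.eq_univ_of_card _ (by
        simp [Ne.symm ha, Ne.symm hb, Ne.symm hbb, Ne.symm hb1, Ne.symm hb2, Ne.symm (hfpf b), Ne.symm hca,
          Ne.symm hcpa, Ne.symm hcb, Ne.symm hcpb, Ne.symm hc1, Ne.symm hc2, Ne.symm hc3, Ne.symm hc4,
          Ne.symm (hfpf c), hn])
    have hπe : π = Equiv.swap a (π a) * (Equiv.swap b (π b) * Equiv.swap c (π c)) := Equiv.ext fun i => by
      have := Finset.mem_univ i
      rw [← huniv] at this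
      simp at this
      rcases this with h | h | h | h | h | h <;> rw [h] <;>
        simp [Equiv.swap_apply_def, hπi, ha, Ne.symm ha, hb, Ne.symm hb, hbb, Ne.symm hbb, hb1, Ne.symm hb1, hb2,
          Ne.symm hb2, hfpf b, Ne.symm (hfpf b), hca, Ne.symm hca, hcpa, Ne.symm hcpa, hcb, Ne.symm hcb, hcpb,
          Ne.symm hcpb, hc1, Ne.symm hc1, hc2, Ne.symm hc2, hc3, Ne.symm hc3, hc4, Ne.symm hc4, hfpf c,
          Ne.symm (hfpf c)]
    have hsign : Equiv.Perm.sign π = -1 := by
      rw [hπe, map_mul, map_mul, Equiv.Perm.sign_swap (Ne.symm ha), Equiv.Perm.sign_swap (Ne.symm (hfpf b)),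
        Equiv.Perm.sign_swap (Ne.symm (hfpf c))]
      decide
    obtain ⟨X, hX⟩ := IsPerm.exists_eps hπ
    have hXinv : X.map π.toEmbedding = X := by
      have h1 := hd2
      rw [hX, show S.eps X * S.perm π * (S.eps X * S.perm π) = S.eps X * (S.perm π * S.eps X) * S.perm π by group,
        perm_mul_eps, ← mul_assoc, eps_mul, mul_assoc, ← perm_mul,
        show π * π = 1 from Equiv.ext fun j => hπi j, perm_one, mul_one, ← eps_empty] at h1
      have h2 := eps_injective S h1
      rw [← Finset.bot_eq_empty, symmDiff_eq_bot] at h2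
      exact h2.symm
    have hprod : ∏ _i ∈ X, (-1 : F) = 1 := Finset.prod_involution (fun i _ => π i)
      (fun i _ => by ring) (fun i _ _ => hfpf i)
      (fun i hi => by rw [← hXinv]; exact Finset.mem_map_of_mem _ hi) (fun i _ => hπi i)
    rw [Finset.prod_const] at hprod
    have h1 := S.det_omega (hM hd)
    rw [hX, map_mul, Matrix.det_mul, det_eps, det_perm, hprod, hsign] at h1
    push_cast at h1
    exact S.two (by linear_combination -h1)
  have hP1 : ({a, π a} : Finset (Fin n)).card = 2 := Finset.card_pair (Ne.symm ha)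
  have hP2 : ({p, q} : Finset (Fin n)).card = 2 := Finset.card_pair hpq
  obtain ⟨u, hu, hum, huc⟩ := odd_pairs hn hs hM hm hnm hP2 hP1
  have hd1' : d * S.eps {a, π a} = S.eps {a, π a} * d := by
    have := S.conj_eps hπ {a, π a}
    rw [show ({a, π a} : Finset (Fin n)).map π.toEmbedding = {a, π a} by
      rw [Finset.map_insert, Finset.map_singleton]; simp [hπi, Finset.pair_comm]] at this
    rwa [mul_inv_eq_iff_eq_mul] at this
  have hd2' : d * S.eps {p, q} = S.eps {p, q} * d := by
    have := S.conj_eps hπ {p, q}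
    rw [show ({p, q} : Finset (Fin n)).map π.toEmbedding = {p, q} by
      rw [Finset.map_insert, Finset.map_singleton]; simp [hp, hq]] at this
    rwa [mul_inv_eq_iff_eq_mul] at this
  have hdu : d * u = u * d := comm_of_closure hd2'
    (((show Commute d m from hc.symm).mul_right hd1').mul_right (Commute.inv_right hc.symm)).eq u hu
  obtain ⟨ω, hω⟩ := S.mon_exists_perm hum
  have hωπ : ω * π = π * ω := by
    refine (IsPerm.mul (S := S) hω hπ).unique ?_
    rw [show u * m * d = d * (u * m) by rw [mul_assoc, hc, ← mul_assoc, ← hdu, mul_assoc]]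
    exact IsPerm.mul hπ hω
  have hmap := S.conj_eps hω {a, π a}
  rw [huc, mul_inv_cancel_right] at hmap
  have hset := eps_injective S hmap
  have hωa : ω a ∈ ({p, q} : Finset (Fin n)) := by
    rw [hset]; exact Finset.mem_map_of_mem _ (by simp)
  have hfix : π (ω a) = ω a := by
    simp at hωa; rcases hωa with h | h <;> rw [h] <;> assumption
  refine ha (ω.injective ?_)
  rw [← Equiv.Perm.mul_apply, hωπ, Equiv.Perm.mul_apply, hfix]

/-- without members of small support everything is monomial -/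
theorem mon_of_small_six {g : Iso} (hg : g ∈ S.M) : S.Mon g := by
  classical
  let i₀ : Fin n := ⟨0, by omega⟩
  let i₁ : Fin n := ⟨1, by omega⟩
  let i₂ : Fin n := ⟨2, by omega⟩
  let i₃ : Fin n := ⟨3, by omega⟩
  let i₄ : Fin n := ⟨4, by omega⟩
  let i₅ : Fin n := ⟨5, by omega⟩
  set τ : Equiv.Perm (Fin n) := Equiv.swap i₀ i₁ * Equiv.swap i₂ i₃ with hτ
  have hτ1 : Equiv.Perm.sign τ = 1 := by
    rw [hτ, map_mul, Equiv.Perm.sign_swap (by simp [i₀, i₁]), Equiv.Perm.sign_swap (by simp [i₂, i₃]),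
      Int.units_mul_self]
  have hτv : τ i₀ = i₁ ∧ τ i₄ = i₄ := by
    constructor <;> simp [hτ, Equiv.swap_apply_def, i₀, i₁, i₂, i₃, i₄]
  have hτ2 : τ * τ = 1 := by
    have hcm : Commute (Equiv.swap i₀ i₁) (Equiv.swap i₂ i₃) := by
      refine Equiv.ext fun i => ?_
      simp only [Equiv.Perm.mul_apply, Equiv.swap_apply_def]
      split_ifs <;> simp_all [i₀, i₁, i₂, i₃]
    rw [hτ, hcm.symm.mul_mul_mul_comm, Equiv.swap_mul_self, Equiv.swap_mul_self, one_mul]
  set t := S.perm τ with ht
  have htM : t ∈ S.M := S.perm_mem hτ1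
  have ht2 : t * t = 1 := by rw [ht, ← perm_mul, hτ2, perm_one]
  have httr : S.tr t = 2 := by
    rw [(S.perm_isPerm τ).tr_eq_sum,
      show Finset.univ.filter (fun i => τ i = i) = {i₄, i₅} by
        ext i
        obtain ⟨v, hv⟩ := i
        simp only [Finset.mem_filter, Finset.mem_univ, true_and, hτ, Equiv.Perm.mul_apply, Equiv.swap_apply_def,
          Finset.mem_insert, Finset.mem_singleton, i₀, i₁, i₂, i₃, i₄, i₅, Fin.ext_iff]
        split_ifs <;> simp_all <;> omega,
      Finset.sum_pair (by simp [i₄, i₅])]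
    have : ∀ i, τ i = i → S.img t (Pi.single i 1) i = 1 := fun i hi => by
      rw [ht, img_perm, (Equiv.symm_apply_eq τ).2 hi.symm, Pi.single_eq_same]
    rw [this i₄ hτv.2, this i₅ (by simp [hτ, Equiv.swap_apply_def, i₀, i₁, i₂, i₃, i₅]), one_add_one_eq_two]
  have hP : ({i₄, i₅} : Finset (Fin n)).card = 2 := Finset.card_pair (by simp [i₄, i₅])
  have htrP : S.tr (S.eps {i₄, i₅}) = 2 := tr_eps_two hn hP
  have key : ∀ {k : Iso}, k ∈ S.M → S.Mon (k * t * k⁻¹) := by
    intro k hk
    by_cases hkm : S.Mon k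
    · exact (hkm.mul (S.perm_mon τ)).mul hkm.inv
    set f := k * t * k⁻¹ with hf
    have hfM : f ∈ S.M := mul_mem (mul_mem hk htM) (inv_mem hk)
    have hf2 : f * f = 1 := by
      rw [hf, show k * t * k⁻¹ * (k * t * k⁻¹) = k * (t * t) * k⁻¹ by group, ht2, mul_one, mul_inv_cancel]
    have hftr : S.tr f = 2 := by rw [hf, tr_conj, httr]
    have hle := closure_pair_le (S.eps_mem (T := {i₄, i₅}) (by rw [hP]; exact even_two)) hfM
    rcases dihedral (S.eps_sq {i₄, i₅}) hf2 with ⟨u, hu, he⟩ | ⟨d, hdD, u, hu, hd2, hd1, hde, hdf, hcase⟩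
    · exfalso
      have hw : (u * k)⁻¹ * S.eps {i₄, i₅} * ((u * k)⁻¹)⁻¹ = t := by rw [he, hf]; group
      have hwm := conj_mon_two hn hs hM (inv_mem (mul_mem (hle hu) hk)) hP (hw ▸ S.perm_mon τ)
      obtain ⟨X, -, hX⟩ := S.mon_conj_eps hwm {i₄, i₅}
      have := IsPerm.unique (S := S) (S.perm_isPerm τ)
        (show S.IsPerm (S.perm τ) 1 by rw [← ht, ← hw, hX]; exact eps_isPerm X)
      rw [this] at hτv
      exact absurd hτv.1 (by simp [i₀, i₁])
    have hdM := hle hdD
    obtain ⟨π, hπ⟩ := S.mon_exists_perm (cent_pair hn hs hdM hP hde)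
    by_cases hπ1 : π = 1
    swap
    · exact cent_perm hn hs hM hdM hd2 hπ hπ1 hfM hdf.symm
    obtain ⟨X, hX⟩ := IsPerm.eq_eps (S := S) (hπ1 ▸ hπ)
    have hXe := eps_even (hX ▸ hM hdM)
    have hXne : X.Nonempty := Finset.nonempty_iff_ne_empty.2 fun h0 => hd1 (by rw [hX, h0, eps_empty])
    have hXle : X.card ≤ n := (Finset.card_le_univ X).trans (Fintype.card_fin n).le
    rcases (show (X.card = 2 ∨ X.card = 4) ∨ X.card = 6 by
        obtain ⟨j, hj⟩ := hXe; have := hXne.card_pos; omega) with h24 | h6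
    · exact cent_even hn hs hfM h24 (hX ▸ hdf.symm)
    exfalso
    have hXu : X = Finset.univ := Finset.eq_univ_of_card X (by rw [h6, Fintype.card_fin, hn])
    have hcontra : (2 : F) = -2 → False := fun e1 =>
      S.two (mul_self_eq_zero.1 (show (2 : F) * 2 = 0 by linear_combination e1))
    rcases hcase with hcase | hcase
    · have h1 := congrArg S.tr hcase
      rw [tr_conj, hX, hXu, tr_neg_univ, hftr] at h1
      exact hcontra h1
    · have h1 := congrArg S.tr hcase
      rw [tr_conj, hX, hXu, tr_neg_univ, hftr, htrP] at h1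
      exact hcontra h1.symm
  set A : Finset (Fin n) := {i₀, i₄} with hA
  have hAM : S.eps A ∈ S.M := S.eps_mem (by rw [hA, Finset.card_pair (by simp [i₀, i₄])]; exact even_two)
  have hmap : symmDiff (A.map τ.toEmbedding) A = {i₁, i₀} := by
    rw [hA, Finset.map_insert, Finset.map_singleton]
    simp only [Equiv.coe_toEmbedding, hτv.1, hτv.2]
    ext i
    obtain ⟨v, hv⟩ := i
    simp [Finset.mem_symmDiff, i₀, i₁, i₄, Fin.ext_iff]
    omega
  refine conj_mon_two hn hs hM hg (A := symmDiff (A.map τ.toEmbedding) A)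
    (by rw [hmap, Finset.card_pair (by simp [i₀, i₁])]) ?_
  have e : g * S.eps (symmDiff (A.map τ.toEmbedding) A) * g⁻¹ =
      g * t * g⁻¹ * (g * S.eps A * t * (g * S.eps A)⁻¹) := by
    rw [← eps_mul, ← perm_conj_eps, ← ht, inv_eq_of_mul_eq_one_left ht2, _root_.mul_inv_rev, eps_inv]
    group
  rw [e]
  exact (key hg).mul (key (mul_mem hg hAM))

end Setup

end Cfsg.Agent.Forms.Max.UnitFrame
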