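import Cfsg.Agent.Lib.Forms.Max.UnitFrame.Trick

/-!
# Trace and determinant in frame coordinates
-/

set_option autoImplicit false
set_option linter.unusedSectionVars false

namespace Cfsg.Agent.Forms.Max.UnitFrame

open Matrix Cfsg.Agent.Forms.QuadStd Cfsg.Agent.Forms.Reflections Cfsg.Agent.Classical.Orth

variable {F : Type*} [Field F] [Fintype F] {ι : Type} [Fintype ι] [DecidableEq ι] {n : ℕ}
variable {Q : QuadraticForm F (ι → F)} (S : Setup Q n)

set_option quotPrecheck false in
local notation "Iso" => Cfsg.isometryGroup F ⇑Q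

namespace Setup

/-- the matrix of an isometry in frame coordinates -/
noncomputable def frameMat : Cfsg.isometryGroup F ⇑Q →* Matrix (Fin n) (Fin n) F where
  toFun g := LinearMap.toMatrix' { toFun := S.img g, map_add' := S.img_add g, map_smul' := S.img_smul g }
  map_one' := by
    ext i j
    rw [LinearMap.toMatrix'_apply]
    show S.img 1 (Pi.single j 1) i = _
    rw [img_one, Matrix.one_apply, Pi.single_apply]
  map_mul' g h := by
    rw [← LinearMap.toMatrix'_comp]
    refine congrArg _ (LinearMap.ext fun x => ?_)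
    exact S.img_mul g h x

theorem frameMat_apply (g : Iso) (i j : Fin n) : S.frameMat g i j = S.img g (Pi.single j 1) i := by
  show LinearMap.toMatrix' _ i j = _
  rw [LinearMap.toMatrix'_apply]
  rfl

/-- the trace in frame coordinates -/
noncomputable def tr (g : Cfsg.isometryGroup F ⇑Q) : F := ∑ i, S.img g (Pi.single i 1) i

theorem tr_eq (g : Iso) : S.tr g = (S.frameMat g).trace :=
  Finset.sum_congr rfl fun i _ => (S.frameMat_apply g i i).symm

theorem tr_conj (g x : Iso) : S.tr (g * x * g⁻¹) = S.tr x := by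
  rw [tr_eq, tr_eq, map_mul, map_mul, Matrix.trace_mul_cycle, ← map_mul, inv_mul_cancel, map_one, one_mul]

theorem tr_eps (A : Finset (Fin n)) : S.tr (S.eps A) = (n : F) - 2 * (A.card : F) := by
  classical
  have e : ∀ i, S.img (S.eps A) (Pi.single i 1) i = 1 - if i ∈ A then 2 else 0 := fun i => by
    rw [img_eps, Pi.single_eq_same]; split <;> ring
  rw [tr, Finset.sum_congr rfl fun i _ => e i, Finset.sum_sub_distrib, Finset.sum_ite_mem, Finset.univ_inter,
    Finset.sum_const, Finset.sum_const, Finset.card_univ, Fintype.card_fin, nsmul_eq_mul, nsmul_eq_mul]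
  ring

theorem det_omega {g : Iso} (hg : g ∈ Cfsg.Omega F ⇑Q) : (S.frameMat g).det = 1 := by
  let f : Iso →* Fˣ := (Matrix.detMonoidHom.comp S.frameMat).toHomUnits
  have hker : Cfsg.Omega F ⇑Q ≤ f.ker := Abelianization.commutator_subset_ker f
  exact congrArg Units.val (MonoidHom.mem_ker.1 (hker hg))

theorem det_eps (A : Finset (Fin n)) : (S.frameMat (S.eps A)).det = (-1) ^ A.card := by
  classical
  have e : S.frameMat (S.eps A) = Matrix.diagonal fun i => if i ∈ A then -1 else (1 : F) := by
    ext i j
    rw [frameMat_apply, img_eps, Matrix.diagonal_apply]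
    by_cases h : i = j
    · subst h; simp
    · simp [h]
  rw [e, Matrix.det_diagonal, Finset.prod_ite_mem, Finset.univ_inter, Finset.prod_const]

theorem det_perm (σ : Equiv.Perm (Fin n)) :
    (S.frameMat (S.perm σ)).det = ((Equiv.Perm.sign σ : ℤ) : F) := by
  have e : S.frameMat (S.perm σ) = (σ⁻¹).permMatrix F := by
    ext i j
    rw [frameMat_apply, img_perm, Equiv.Perm.permMatrix, PEquiv.toMatrix_toPEquiv_apply,
      Pi.single_apply, Pi.single_apply]
    by_cases h : j = σ⁻¹ i
    · rw [if_pos (show σ.symm i = j from h.symm), if_pos h]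
    · rw [if_neg (fun hh : σ.symm i = j => h hh.symm), if_neg h]
  rw [e, Matrix.det_permutation, Equiv.Perm.sign_inv]

variable {S}

/-- a monomial element is a sign change times a permutation -/
theorem IsPerm.exists_eps {g : Iso} {π : Equiv.Perm (Fin n)} (h : S.IsPerm g π) :
    ∃ X, g = S.eps X * S.perm π := by
  obtain ⟨X, hX⟩ := IsPerm.eq_eps (S := S) (g := g * (S.perm π)⁻¹) (by
    have := h.mul (S.perm_isPerm π).inv
    rwa [mul_inv_cancel] at this)
  exact ⟨X, by rw [← hX, inv_mul_cancel_right]⟩

theorem IsPerm.col_eq {g : Iso} {π : Equiv.Perm (Fin n)} (h : S.IsPerm g π) {i : Fin n} :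
    S.img g (Pi.single i 1) = S.img g (Pi.single i 1) (π i) • Pi.single (π i) 1 := by
  obtain ⟨a, -, ha⟩ := h i
  rw [ha]; simp

/-- the trace of a monomial element only sees the fixed frame vectors -/
theorem IsPerm.tr_eq_sum {g : Iso} {π : Equiv.Perm (Fin n)} (h : S.IsPerm g π) :
    S.tr g = ∑ i ∈ Finset.univ.filter (fun i => π i = i), S.img g (Pi.single i 1) i := by
  rw [tr, Finset.sum_filter]
  refine Finset.sum_congr rfl fun i _ => ?_
  split
  · rfl
  · next hi =>
      obtain ⟨a, -, ha⟩ := h i
      rw [ha]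
      simp [Ne.symm hi]

theorem IsPerm.exists_fixed {g : Iso} {π : Equiv.Perm (Fin n)} (h : S.IsPerm g π) (h0 : S.tr g ≠ 0) :
    ∃ i, π i = i := by
  by_contra hc
  push Not at hc
  refine h0 ?_
  rw [h.tr_eq_sum, Finset.filter_false_of_mem fun i _ => hc i, Finset.sum_empty]

theorem perm_mul_eps (σ : Equiv.Perm (Fin n)) (A : Finset (Fin n)) :
    S.perm σ * S.eps A = S.eps (A.map σ.toEmbedding) * S.perm σ := by
  have := S.perm_conj_eps σ A
  rwa [mul_inv_eq_iff_eq_mul] at this

theorem eps_even {A : Finset (Fin n)} (h : S.eps A ∈ Cfsg.Omega F ⇑Q) : Even A.card := by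
  rcases Nat.even_or_odd A.card with he | ho
  · exact he
  · have h1 := S.det_omega h
    rw [S.det_eps, ho.neg_one_pow] at h1
    exact absurd (show (2 : F) = 0 by linear_combination -h1) S.two

end Setup

end Cfsg.Agent.Forms.Max.UnitFrame
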