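import Cfsg.Agent.Lib.Forms.Max.UnitFrame.Six.Finish
import Cfsg.Agent.Lib.Forms.Max.UnitFrame.Maximal

/-!
# Maximality of stabilisers of decompositions of six-dimensional spaces into lines
-/

set_option autoImplicit false

namespace Cfsg.Agent.Forms.Max.UnitFrame

open Cfsg.Agent.Forms.QuadStd Cfsg.Agent.Forms.Reflections Cfsg.Agent.Classical.Orth

variable {F : Type*} [Field F] [Fintype F] {ι : Type} [Fintype ι] [DecidableEq ι]
variable {Q : QuadraticForm F (ι → F)} {t : ℕ} {D : Fin t → Submodule F (ι → F)}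

/-- maximality in dimension six -/
theorem maximal_six (hQ : (QuadraticMap.polarBilin Q).Nondegenerate) (h2 : (2 : F) ≠ 0)
    (hp : (Fintype.card F).Prime) (hD : Cfsg.Geo.IsOrthogonalMDecomposition (⇑Q) 1 D)
    (hn : Fintype.card ι = 6) :
    Cfsg.Geo.IsMaximalIn (Cfsg.Geo.omegaGL ⇑Q)
      (Cfsg.Geo.decompositionStabilizer D ⊓ Cfsg.Geo.omegaGL ⇑Q) :=
  maximal_of hQ h2 hD (by omega) fun S hM g hg hng =>
    Setup.omega_le_six (S := S) (by have := OrthBlocks.card_eq hD; omega) hp hM hg hng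

end Cfsg.Agent.Forms.Max.UnitFrame
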