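import Cfsg.Agent.Lib.Forms.Max.UnitFrame.Six.Conj

/-!
# Six frame vectors: monomial conjugates of sign changes force monomiality
-/

set_option autoImplicit false
set_option linter.unusedSectionVars false
set_option linter.unusedSimpArgs false
set_option maxHeartbeats 1000000

namespace Cfsg.Agent.Forms.Max.UnitFrame

open Matrix Cfsg.Agent.Forms.QuadStd Cfsg.Agent.Forms.Reflections Cfsg.Agent.Classical.Orth

variable {F : Type*} [Field F] [Fintype F] {ι : Type} [Fintype ι] [DecidableEq ι] {n : ℕ}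
variable {Q : QuadraticForm F (ι → F)} {S : Setup Q n}

set_option quotPrecheck false in
local notation "Iso" => Cfsg.isometryGroup F ⇑Q

/-- an involution with a fixed point which is no transposition moves four points -/
theorem shape_four (hn : n = 6) {ψ : Equiv.Perm (Fin n)} (hi : ∀ i, ψ (ψ i) = i) (h1 : ψ ≠ 1)
    (hfix : ∃ i, ψ i = i) (hsw : ∀ a b : Fin n, a ≠ b → ψ ≠ Equiv.swap a b) :
    ∃ a b c d : Fin n, ψ a = b ∧ ψ c = d ∧ a ≠ b ∧ a ≠ c ∧ a ≠ d ∧ b ≠ c ∧ b ≠ d ∧ c ≠ d ∧
      ∀ i, ψ i = i ↔ i ∉ ({a, b, c, d} : Finset (Fin n)) := by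
  classical
  obtain ⟨a, ha⟩ : ∃ a, ψ a ≠ a := by
    by_contra h0; push Not at h0; exact h1 (Equiv.ext h0)
  obtain ⟨c, hc, hca, hcb⟩ : ∃ c, ψ c ≠ c ∧ c ≠ a ∧ c ≠ ψ a := by
    by_contra h0
    push Not at h0
    refine hsw a (ψ a) (Ne.symm ha) (Equiv.ext fun i => ?_)
    by_cases e1 : i = a
    · rw [e1, Equiv.swap_apply_left]
    by_cases e2 : i = ψ a
    · rw [e2, Equiv.swap_apply_right, hi]
    rw [Equiv.swap_apply_of_ne_of_ne e1 e2]
    by_contra h3
    exact e2 (h0 i h3 e1)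
  have hda : ψ c ≠ a := fun e1 => hcb (by rw [← e1, hi])
  have hdb : ψ c ≠ ψ a := fun e1 => hca (ψ.injective e1)
  refine ⟨a, ψ a, c, ψ c, rfl, rfl, Ne.symm ha, Ne.symm hca, Ne.symm hda, Ne.symm hcb, Ne.symm hdb, Ne.symm hc,
    fun i => ⟨fun h hin => ?_, fun hout => ?_⟩⟩
  · simp at hin
    rcases hin with rfl | rfl | rfl | rfl
    exacts [ha h, ha (ψ.injective h), hc h, hc (ψ.injective h)]
  · by_contra h0
    simp at hout
    obtain ⟨o1, o2, o3, o4⟩ := hout
    have p1 : ψ i ≠ a := fun e1 => o2 (by rw [← e1, hi])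
    have p2 : ψ i ≠ ψ a := fun e1 => o1 (ψ.injective e1)
    have p3 : ψ i ≠ c := fun e1 => o4 (by rw [← e1, hi])
    have p4 : ψ i ≠ ψ c := fun e1 => o3 (ψ.injective e1)
    have huniv : ({a, ψ a, c, ψ c, i, ψ i} : Finset (Fin n)) = Finset.univ :=
      Finset.eq_univ_of_card _ (by
        simp [Ne.symm ha, Ne.symm hc, Ne.symm hca, Ne.symm hcb, Ne.symm hda, Ne.symm hdb, Ne.symm o1, Ne.symm o2,
          Ne.symm o3, Ne.symm o4, Ne.symm p1, Ne.symm p2, Ne.symm p3, Ne.symm p4, Ne.symm h0, hn])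
    obtain ⟨j, hj⟩ := hfix
    have := Finset.mem_univ j
    rw [← huniv] at this
    simp at this
    rcases this with rfl | rfl | rfl | rfl | rfl | rfl
    exacts [ha hj, ha (ψ.injective hj), hc hj, hc (ψ.injective hj), h0 hj, h0 (ψ.injective hj)]

namespace Setup

variable (hn : n = 6) (hs : S.Small 4) (hM : S.M ≤ Cfsg.Omega F ⇑Q)
include hn hs hM

omit hs hM in
/-- with trace two and two fixed frame vectors, both signs are positive -/
theorem plus_two {m : Iso} {ψ : Equiv.Perm (Fin n)} (hψ : S.IsPerm m ψ) (htr : S.tr m = 2) {a b c d : Fin n}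
    (hne : a ≠ b ∧ a ≠ c ∧ a ≠ d ∧ b ≠ c ∧ b ≠ d ∧ c ≠ d)
    (hfix : ∀ i, ψ i = i ↔ i ∉ ({a, b, c, d} : Finset (Fin n))) {i : Fin n} (hi : ψ i = i) :
    S.img m (Pi.single i 1) = Pi.single i 1 ∧ ∀ v, S.img m v i = v i := by
  classical
  obtain ⟨h1, h2, h3, h4, h5, h6⟩ := hne
  have hset : Finset.univ.filter (fun j => ψ j = j) = ({a, b, c, d} : Finset (Fin n))ᶜ := by
    ext j; simp [hfix j]
  have hcard : (({a, b, c, d} : Finset (Fin n))ᶜ).card = 2 := by
    rw [Finset.card_compl, Fintype.card_fin]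
    simp [h1, h2, h3, h4, h5, h6, hn]
  obtain ⟨p, q, hpq, hC⟩ := Finset.card_eq_two.1 hcard
  obtain ⟨s, hs1, hs, hsc⟩ := hψ.coord i
  rw [hi] at hs hsc
  have hiC : i ∈ ({p, q} : Finset (Fin n)) := by rw [← hC, ← hset]; simp [hi]
  have hone : s = 1 := by
    have hp : ψ p = p := (hfix p).2 (Finset.mem_compl.1 (by rw [hC]; simp))
    have hq : ψ q = q := (hfix q).2 (Finset.mem_compl.1 (by rw [hC]; simp))
    obtain ⟨sp, sp1, hsp, -⟩ := hψ.coord p
    obtain ⟨sq', sq1, hsq, -⟩ := hψ.coord q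
    rw [hp] at hsp
    rw [hq] at hsq
    rw [hψ.tr_eq_sum, hset, hC, Finset.sum_pair hpq, hsp, hsq] at htr
    simp at htr
    have key : ∀ x y : F, x * x = 1 → y * y = 1 → x + y = 2 → x = 1 := fun x y hx hy hxy => by
      rcases mul_self_eq_one_iff.1 hx with e | e
      · exact e
      rcases mul_self_eq_one_iff.1 hy with e' | e'
      · exact absurd (show (2 : F) = 0 by linear_combination -hxy + e + e') S.two
      · exact absurd (show (2 : F) = 0 from mul_self_eq_zero.1 (by linear_combination -hxy + e + e')) S.two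
    rcases (by simpa using hiC : i = p ∨ i = q) with rfl | rfl
    · rw [hsp] at hs
      have := congrFun hs i
      simp at this
      rw [← this]; exact key _ _ sp1 sq1 htr
    · rw [hsq] at hs
      have := congrFun hs i
      simp at this
      rw [← this]; exact key _ _ sq1 sp1 (by linear_combination htr)
  refine ⟨by rw [hs, hone, one_smul], fun v => by rw [hsc, hone, one_mul]⟩

omit hn hs hM in
theorem eps_isPerm (A : Finset (Fin n)) : S.IsPerm (S.eps A) 1 := fun i => by
  refine ⟨if i ∈ A then -1 else 1, by split <;> ring, funext fun j => ?_⟩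
  rw [img_eps, Equiv.Perm.one_apply]
  by_cases h : j = i
  · subst h; split <;> simp
  · simp [h]

omit hn hs hM in
/-- a signed three-cycle fixing a vector with equal squares on three places -/
theorem signed_cycle {a b c : Fin n} (hab : a ≠ b) (hac : a ≠ c) (hbc : b ≠ c) {y : Fin n → F}
    (hyb : y b * y b = y a * y a) (hcb : y c * y c = y b * y b) :
    ∃ s : Iso, s ∈ S.M ∧ s * (s * s) = 1 ∧ S.img s y = y ∧
      ∀ z, S.img s z = z → (z a = 0 ↔ z b = 0) ∧ (z b = 0 ↔ z c = 0) := by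
  classical
  -- a signed three-cycle fixing the vector
  set σ : Equiv.Perm (Fin n) := Equiv.swap a b * Equiv.swap b c with hσ
  have hσ1 : Equiv.Perm.sign σ = 1 := by
    rw [hσ, map_mul, Equiv.Perm.sign_swap hab, Equiv.Perm.sign_swap hbc, Int.units_mul_self]
  have hσs : σ.symm a = c ∧ σ.symm b = a ∧ σ.symm c = b ∧
      ∀ j, j ≠ a → j ≠ b → j ≠ c → σ.symm j = j := by
    refine ⟨?_, ?_, ?_, fun j h1 h2 h3 => ?_⟩ <;> rw [Equiv.symm_apply_eq, hσ, Equiv.Perm.mul_apply]
    · rw [Equiv.swap_apply_right, Equiv.swap_apply_right]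
    · rw [Equiv.swap_apply_of_ne_of_ne hab hac, Equiv.swap_apply_left]
    · rw [Equiv.swap_apply_left, Equiv.swap_apply_of_ne_of_ne hac.symm hbc.symm]
    · rw [Equiv.swap_apply_of_ne_of_ne h2 h3, Equiv.swap_apply_of_ne_of_ne h1 h2]
  obtain ⟨D, hDe, hDK, hD3, hDy⟩ : ∃ D : Finset (Fin n), Even D.card ∧ D ⊆ {a, b, c} ∧
      symmDiff D (symmDiff (D.map σ.toEmbedding) ((D.map σ.toEmbedding).map σ.toEmbedding)) = ∅ ∧
      S.img (S.eps D * S.perm σ) y = y := by
    have hsets : ∀ D : Finset (Fin n), D = ∅ ∨ D = {c, a} ∨ D = {b, a} ∨ D = {b, c} →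
        Even D.card ∧ D ⊆ {a, b, c} ∧
        symmDiff D (symmDiff (D.map σ.toEmbedding) ((D.map σ.toEmbedding).map σ.toEmbedding)) = ∅ := by
      intro D hD
      have hmap : ∀ i, i ∈ D.map σ.toEmbedding ↔ σ.symm i ∈ D := fun i => Finset.mem_map_equiv
      refine ⟨?_, ?_, ?_⟩
      · rcases hD with rfl | rfl | rfl | rfl
        exacts [⟨0, rfl⟩, by rw [Finset.card_pair hac.symm]; exact even_two,
          by rw [Finset.card_pair hab.symm]; exact even_two, by rw [Finset.card_pair hbc]; exact even_two]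
      · rcases hD with rfl | rfl | rfl | rfl <;> simp [Finset.insert_subset_iff]
      · ext i
        simp only [Finset.mem_symmDiff, Finset.mem_map_equiv, Finset.notMem_empty, iff_false]
        by_cases h1 : i = a
        · subst h1
          rw [hσs.1, hσs.2.2.1]
          rcases hD with rfl | rfl | rfl | rfl <;> simp [hab, hac, hbc, hab.symm, hac.symm, hbc.symm]
        by_cases h2 : i = b
        · subst h2
          rw [hσs.2.1, hσs.1]
          rcases hD with rfl | rfl | rfl | rfl <;> simp [hab, hac, hbc, hab.symm, hac.symm, hbc.symm]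
        by_cases h3 : i = c
        · subst h3
          rw [hσs.2.2.1, hσs.2.1]
          rcases hD with rfl | rfl | rfl | rfl <;> simp [hab, hac, hbc, hab.symm, hac.symm, hbc.symm]
        rw [hσs.2.2.2 i h1 h2 h3, hσs.2.2.2 i h1 h2 h3]
        have hni : i ∉ D := by rcases hD with rfl | rfl | rfl | rfl <;> simp [h1, h2, h3]
        simp [hni]
    have himg : ∀ D : Finset (Fin n), D ⊆ {a, b, c} →
        (if a ∈ D then -y c else y c) = y a → (if b ∈ D then -y a else y a) = y b →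
        (if c ∈ D then -y b else y b) = y c → S.img (S.eps D * S.perm σ) y = y := fun D hD k1 k2 k3 =>
      funext fun j => by
        rw [img_mul, img_eps, img_perm]
        by_cases h1 : j = a
        · subst h1; rw [hσs.1]; exact k1
        by_cases h2 : j = b
        · subst h2; rw [hσs.2.1]; exact k2
        by_cases h3 : j = c
        · subst h3; rw [hσs.2.2.1]; exact k3
        rw [hσs.2.2.2 j h1 h2 h3, if_neg fun hjD => by simpa [h1, h2, h3] using hD hjD]
    rcases mul_self_eq_mul_self_iff.1 hyb with hb' | hb' <;>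
      rcases mul_self_eq_mul_self_iff.1 hcb with hc' | hc'
    · exact ⟨∅, (hsets ∅ (Or.inl rfl)).1, (hsets ∅ (Or.inl rfl)).2.1, (hsets ∅ (Or.inl rfl)).2.2,
        himg ∅ (by simp) (by simp [hc', hb']) (by simp [hb']) (by simp [hc'])⟩
    · obtain ⟨k1, k2, k3⟩ := hsets {c, a} (Or.inr (Or.inl rfl))
      exact ⟨_, k1, k2, k3, himg _ k2 (by simp [hc', hb']) (by simp [hb', hbc, hab.symm]) (by simp [hc'])⟩
    · obtain ⟨k1, k2, k3⟩ := hsets {b, a} (Or.inr (Or.inr (Or.inl rfl)))
      exact ⟨_, k1, k2, k3, himg _ k2 (by simp [hc', hb']) (by simp [hb']) (by simp [hc', hbc.symm, hac.symm])⟩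
    · obtain ⟨k1, k2, k3⟩ := hsets {b, c} (Or.inr (Or.inr (Or.inr rfl)))
      exact ⟨_, k1, k2, k3, himg _ k2 (by simp [hc', hb', hab, hac]) (by simp [hb']) (by simp [hc'])⟩
  set s := S.eps D * S.perm σ with hsdef
  have hσ3 : σ * (σ * σ) = 1 := Equiv.ext fun i => by
    simp only [Equiv.Perm.mul_apply, Equiv.Perm.one_apply]
    rw [← Equiv.eq_symm_apply, ← Equiv.eq_symm_apply, ← Equiv.eq_symm_apply]
    by_cases h1 : i = a
    · subst h1; rw [hσs.1, hσs.2.2.1, hσs.2.1]
    by_cases h2 : i = b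
    · subst h2; rw [hσs.2.1, hσs.1, hσs.2.2.1]
    by_cases h3 : i = c
    · subst h3; rw [hσs.2.2.1, hσs.2.1, hσs.1]
    simp [hσs.2.2.2 i h1 h2 h3]
  have hs3 : s * (s * s) = 1 := by
    rw [hsdef, show S.eps D * S.perm σ * (S.eps D * S.perm σ * (S.eps D * S.perm σ)) =
      S.eps D * ((S.perm σ * S.eps D) * ((S.perm σ * S.eps D) * S.perm σ)) by group, perm_mul_eps,
      show S.eps D * (S.eps (D.map σ.toEmbedding) * S.perm σ * (S.eps (D.map σ.toEmbedding) * S.perm σ * S.perm σ)) =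
      S.eps D * (S.eps (D.map σ.toEmbedding) * ((S.perm σ * S.eps (D.map σ.toEmbedding)) * (S.perm σ * S.perm σ)))
        by group, perm_mul_eps]
    rw [mul_assoc (S.eps ((D.map σ.toEmbedding).map σ.toEmbedding)), ← perm_mul, ← perm_mul, hσ3, perm_one,
      mul_one, eps_mul, eps_mul, hD3, eps_empty]
  refine ⟨s, mul_mem (S.eps_mem hDe) (S.perm_mem hσ1), hs3, hDy, fun z hsz => ?_⟩
  have h1 := congrFun hsz b
  have h2 := congrFun hsz c
  rw [hsdef, img_mul, img_eps, img_perm] at h1 h2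
  rw [hσs.2.1] at h1
  rw [hσs.2.2.1] at h2
  constructor
  · rw [← h1]; split <;> simp
  · rw [← h2]; split <;> simp

/-- the conjugating element of a monomial conjugate of a sign change of two vectors is monomial -/
theorem conj_mon_two {g : Iso} (hg : g ∈ S.M) {A : Finset (Fin n)} (hA : A.card = 2)
    (hx : S.Mon (g * S.eps A * g⁻¹)) : S.Mon g := by
  classical
  by_contra hng
  have hgi : g⁻¹ ∈ S.M := inv_mem hg
  have hngi : ¬ S.Mon g⁻¹ := fun h => hng (by have := h.inv; rwa [inv_inv] at this)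
  set x := g * S.eps A * g⁻¹ with hxdef
  obtain ⟨π, hπ⟩ := S.mon_exists_perm hx
  have hπi : ∀ i, π (π i) = i := IsPerm.invol hπ (conj_sq A)
  have hπ1 : π ≠ 1 := fun h1 => by
    obtain ⟨D, hD⟩ := IsPerm.eq_eps (S := S) (h1 ▸ hπ)
    have hgA : g * S.eps A = S.eps D * g := by rw [← hD, hxdef]; group
    exact hng (carry_six hn hs hg (Or.inl hA) hgA)
  have htrx : S.tr x = 2 := by rw [hxdef, tr_conj, tr_eps_two hn hA]
  obtain ⟨a, b, c, d, hab', hcd', hab, hac, had, hbc, hbd, hcd, hπfix⟩ := shape_four hn hπi hπ1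
    (IsPerm.exists_fixed hπ (by rw [htrx]; exact S.two))
    (fun p q hpq e1 => not_transposition hn hs hM hg hng hA hπ hpq e1)
  set K : Finset (Fin n) := {a, b, c, d} with hK
  have hKc : Kᶜ.card = 2 := by
    rw [Finset.card_compl, Fintype.card_fin, hK]; simp [hab, hac, had, hbc, hbd, hcd, hn]
  obtain ⟨a', b', hab'', hKe⟩ := Finset.card_eq_two.1 hKc
  have hfix' : π a' = a' ∧ π b' = b' := ⟨(hπfix a').2 (Finset.mem_compl.1 (by rw [hKe]; simp)),
    (hπfix b').2 (Finset.mem_compl.1 (by rw [hKe]; simp))⟩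
  have hba : π b = a := by rw [← hab', hπi]
  have hdc : π d = c := by rw [← hcd', hπi]
  -- the three transported sign changes
  have hback : ∀ {p q : Fin n}, p ≠ q → ({p, q} : Finset (Fin n)).map π.toEmbedding = {p, q} →
      ∃ ψ, S.IsPerm (g⁻¹ * S.eps {p, q} * g) ψ ∧ (∀ i, ψ (ψ i) = i) ∧ (∀ i, i ∈ A ↔ ψ i ∈ A) ∧
        ∃ s₁ s₂ s₃ s₄ : Fin n, (s₁ ≠ s₂ ∧ s₁ ≠ s₃ ∧ s₁ ≠ s₄ ∧ s₂ ≠ s₃ ∧ s₂ ≠ s₄ ∧ s₃ ≠ s₄) ∧
          (∀ i, ψ i = i ↔ i ∉ ({s₁, s₂, s₃, s₄} : Finset (Fin n))) ∧
          ∀ i, ψ i = i → S.img (g⁻¹ * S.eps {p, q} * g) (Pi.single i 1) = Pi.single i 1 := by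
    intro p q hpq hmap
    obtain ⟨ψ, hψ, hψ1, hψi, hψA, hψf⟩ := back hn hs hM hg hng hA (Or.inl (Finset.card_pair hpq)) (by
      have := S.conj_eps hπ {p, q}
      rwa [hmap, mul_inv_eq_iff_eq_mul] at this)
    obtain ⟨s₁, s₂, s₃, s₄, -, -, h12, h13, h14, h23, h24, h34, hf⟩ := shape_four hn hψi hψ1 hψf
      (fun u v huv e1 => not_transposition hn hs hM hgi hngi (Finset.card_pair hpq)
        (π := ψ) (by rw [inv_inv]; exact hψ) huv e1)
    refine ⟨ψ, hψ, hψi, hψA, s₁, s₂, s₃, s₄, ⟨h12, h13, h14, h23, h24, h34⟩, hf, fun i hi => ?_⟩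
    refine (plus_two hn hψ ?_ ⟨h12, h13, h14, h23, h24, h34⟩ hf hi).1
    have := S.tr_conj g⁻¹ (S.eps {p, q})
    rw [inv_inv] at this
    rw [this, tr_eps_two hn (Finset.card_pair hpq)]
  obtain ⟨r0, hr0, -, -, u1, u2, u3, u4, hu, hr0f, hr0p⟩ := hback hab'' (by
    rw [Finset.map_insert, Finset.map_singleton]; simp [hfix'.1, hfix'.2])
  obtain ⟨r1, hr1, hr1i, hr1A, v1, v2, v3, v4, hv, hr1f, hr1p⟩ := hback hab (by
    rw [Finset.map_insert, Finset.map_singleton]; simp [hab', hba, Finset.pair_comm])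
  obtain ⟨r2, hr2, -, hr2A, w1, w2, w3, w4, hw, hr2f, hr2p⟩ := hback hcd (by
    rw [Finset.map_insert, Finset.map_singleton]; simp [hcd', hdc, Finset.pair_comm])
  have hmul : r1 * r2 = r0 := by
    have h12 : S.eps {a, b} * S.eps {c, d} = S.eps Finset.univ * S.eps {a', b'} := by
      rw [← eps_compl, eps_mul, ← hKe, compl_compl, hK]
      congr 1
      rw [Disjoint.symmDiff_eq_sup (by simp [hac.symm, hbc.symm, had.symm, hbd.symm])]
      ext i; simp; tauto
    refine IsPerm.unique (S := S) (IsPerm.mul hr1 hr2) ?_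
    have e : g⁻¹ * S.eps {a, b} * g * (g⁻¹ * S.eps {c, d} * g) = S.eps Finset.univ * (g⁻¹ * S.eps {a', b'} * g) := by
      rw [show g⁻¹ * S.eps {a, b} * g * (g⁻¹ * S.eps {c, d} * g) = g⁻¹ * (S.eps {a, b} * S.eps {c, d}) * g by group,
        h12, ← mul_assoc, eps_univ_comm, mul_assoc, mul_assoc, mul_assoc]
    rw [e]
    simpa using IsPerm.mul (eps_isPerm (S := S) Finset.univ) hr0
  -- vectors of the distinguished plane and of its complement
  have hneg : ∀ i ∈ A, S.img x (S.img g (Pi.single i 1)) = -S.img g (Pi.single i 1) := fun i hi => by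
    rw [hxdef, img_mul, img_mul, img_inv_img, S.img_eps_eq_neg.2 fun m hm =>
      Pi.single_eq_of_ne (fun e1 : m = i => hm (e1 ▸ hi)) 1, img_neg]
  have hpos : ∀ i, i ∉ A → S.img x (S.img g (Pi.single i 1)) = S.img g (Pi.single i 1) := fun i hi => by
    rw [hxdef, img_mul, img_mul, img_inv_img, S.img_eps_eq_self.2 fun m hm =>
      Pi.single_eq_of_ne (fun e1 : m = i => hi (e1 ▸ hm)) 1]
  have hxK : ∀ {j : Fin n}, j ∉ K → ∀ v, S.img x v j = v j := fun {j} hj =>
    (plus_two hn hπ htrx ⟨hab, hac, had, hbc, hbd, hcd⟩ hπfix ((hπfix j).2 hj)).2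
  have hzero : ∀ i ∈ A, ∀ j, j ∉ K → S.img g (Pi.single i 1) j = 0 := fun i hi j hj => by
    have h1 := hxK hj (S.img g (Pi.single i 1))
    rw [hneg i hi, Pi.neg_apply] at h1
    exact (mul_eq_zero.1 (show (2 : F) * S.img g (Pi.single i 1) j = 0 by linear_combination -h1)).resolve_left S.two
  have hfixback : ∀ {P : Finset (Fin n)} {i : Fin n}, (∀ j ∈ P, S.img g (Pi.single i 1) j = 0) →
      S.img (g⁻¹ * S.eps P * g) (Pi.single i 1) = Pi.single i 1 := fun {P i} h => by
    rw [img_mul, img_mul, S.img_eps_eq_self.2 h, img_inv_img]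
  have hr0A : ∀ i ∈ A, r0 i = i := fun i hi => by
    obtain ⟨s, -, hs', -⟩ := hr0.coord i
    rw [hfixback (P := {a', b'}) (fun j hj => hzero i hi j (Finset.mem_compl.1 (by rw [hKe]; exact hj)))] at hs'
    by_contra h0
    have := congrFun hs' i
    simp [Ne.symm h0] at this
  obtain ⟨e, f, hef, hAef⟩ := Finset.card_eq_two.1 hA
  have heA : e ∈ A := by simp [hAef]
  have hfA : f ∈ A := by simp [hAef]
  set U : Finset (Fin n) := Aᶜ with hU
  have hUc : U.card = 4 := by rw [hU, Finset.card_compl, Fintype.card_fin, hA, hn]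
  have hr0U : ∀ i ∈ U, r0 i ≠ i := by
    intro i hi h0
    obtain ⟨u12, u13, u14, u23, u24, u34⟩ := hu
    have hsub : ({e, f, i} : Finset (Fin n)) ⊆ ({u1, u2, u3, u4} : Finset (Fin n))ᶜ := fun j hj => by
      rw [Finset.mem_compl, ← hr0f]
      simp at hj
      rcases hj with rfl | rfl | rfl
      exacts [hr0A _ heA, hr0A _ hfA, h0]
    have h1 := Finset.card_le_card hsub
    rw [Finset.card_compl, Fintype.card_fin] at h1
    simp [hU, hAef] at hi
    simp [hef, Ne.symm hi.1, Ne.symm hi.2, u12, u13, u14, u23, u24, u34, hn] at h1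
  set y := S.img g (Pi.single e 1) with hy
  have hy1 : dot y y = 1 := by rw [hy, col_dot, if_pos rfl]
  have hr1e : r1 e = f := by
    have h1 : r1 e ∈ A := (hr1A e).1 heA
    simp [hAef] at h1
    refine h1.resolve_left fun h2 => ?_
    have h3 : r2 e = e := r1.injective (by rw [← Equiv.Perm.mul_apply, hmul, hr0A e heA, h2])
    have e1 := congrArg (S.img g) (hr1p e h2)
    have e2 := congrArg (S.img g) (hr2p e h3)
    rw [img_mul, img_mul, img_img_inv, S.img_eps_eq_self] at e1 e2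
    have hy0 : y = 0 := funext fun j => by
      by_cases hj : j ∈ K
      · simp [hK] at hj
        rcases hj with rfl | rfl | rfl | rfl
        exacts [e1 _ (by simp), e1 _ (by simp), e2 _ (by simp), e2 _ (by simp)]
      · exact hzero e heA j hj
    rw [hy0, dot] at hy1
    simp at hy1
  have hdotK : ∀ p q : Fin n → F, (∀ j, j ∉ K → p j = 0) → dot p q = p a * q a + p b * q b + p c * q c + p d * q d := by
    intro p q hp
    rw [dot, ← Finset.sum_subset (Finset.subset_univ K) (fun j _ hj => by rw [hp j hj, zero_mul]), hK,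
      Finset.sum_insert (by simp [hab, hac, had]), Finset.sum_insert (by simp [hbc, hbd]), Finset.sum_pair hcd]
    ring
  -- coordinates on the moved points
  have hsq : ∀ {p q : Fin n}, π p = q → ∀ v, (S.img x v = v ∨ S.img x v = -v) → v q * v q = v p * v p := by
    intro p q hpq v hv
    obtain ⟨s, hs1, -, hsc⟩ := IsPerm.coord hπ p
    have h1 := hsc v
    rw [hpq] at h1
    rcases hv with hv | hv <;> rw [hv] at h1
    · linear_combination (v q + s * v p) * h1 + (v p * v p) * hs1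
    · rw [Pi.neg_apply] at h1
      linear_combination -(v q - s * v p) * h1 + (v p * v p) * hs1
  have hyb := hsq hab' y (Or.inr (hneg e heA))
  have hyd := hsq hcd' y (Or.inr (hneg e heA))
  obtain ⟨t, ht1, ht, -⟩ := hr1.coord e
  rw [hr1e] at ht
  have hyf : t • S.img g (Pi.single f 1) = S.img (S.eps {a, b}) y := by
    rw [← S.img_smul, ← ht, hy, img_mul, img_mul, img_img_inv]
  have horth : -(y a * y a) - y b * y b + y c * y c + y d * y d = 0 := by
    have h1 : dot y (t • S.img g (Pi.single f 1)) = 0 := by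
      rw [dot_smul_right, hy, S.col_dot, if_neg hef, mul_zero]
    rw [hyf, hdotK y _ (hzero e heA), img_eps, img_eps, img_eps, img_eps, if_pos (by simp), if_pos (by simp),
      if_neg (by simp [hac.symm, hbc.symm]), if_neg (by simp [had.symm, hbd.symm])] at h1
    linear_combination h1
  rw [hdotK y y (hzero e heA)] at hy1
  have hya : 4 * (y a * y a) = 1 := by linear_combination hy1 - horth - 2 * hyb
  have hyc : y c * y c = y a * y a := by
    have h4 : (2 : F) * (y c * y c) = 2 * (y a * y a) := by linear_combination horth + hyb - hyd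
    exact mul_left_cancel₀ S.two h4
  obtain ⟨s, hsM, hs3, hsy, hszero⟩ := signed_cycle (S := S) hab hac hbc hyb (hyc.trans hyb.symm)
  set k := g⁻¹ * s * g with hk
  have hkM : k ∈ S.M := mul_mem (mul_mem hgi hsM) hg
  have hke : S.img k (Pi.single e 1) = (1 : F) • Pi.single e 1 := by
    rw [one_smul, hk, img_mul, img_mul, ← hy, hsy, hy, img_inv_img]
  obtain ⟨κ, hκ⟩ := S.mon_exists_perm (mon_of_col hn hs hkM hke)
  have hk3 : k * (k * k) = 1 := by
    rw [hk, show g⁻¹ * s * g * (g⁻¹ * s * g * (g⁻¹ * s * g)) = g⁻¹ * (s * (s * s)) * g by group, hs3, mul_one,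
      inv_mul_cancel]
  have hκ3 : κ * (κ * κ) = 1 := (IsPerm.mul (S := S) hκ (IsPerm.mul hκ hκ)).unique (hk3.symm ▸ IsPerm.one)
  have hκe : κ e = e := by
    obtain ⟨z, -, hz, -⟩ := IsPerm.coord hκ e
    rw [hke] at hz
    by_contra h0
    have := congrFun hz e
    simp [Ne.symm h0] at this
  obtain ⟨i, hiU, hκ'⟩ : ∃ i ∈ U, κ i = i := by
    have hmod := Equiv.Perm.card_compl_support_modEq (α := Fin n) (p := 3) (n := 1) (σ := κ)
      (by rw [pow_one, pow_succ, pow_two, mul_assoc]; exact hκ3)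
    rw [Fintype.card_fin] at hmod
    by_contra h0
    push Not at h0
    have hsub : κ.supportᶜ ⊆ A := fun j hj => by
      rw [Finset.mem_compl, Equiv.Perm.mem_support, not_not] at hj
      by_contra hjA
      exact h0 j (Finset.mem_compl.2 hjA) hj
    have h1 := Finset.card_le_card hsub
    have h2 : 0 < κ.supportᶜ.card :=
      Finset.card_pos.2 ⟨e, by rw [Finset.mem_compl, Equiv.Perm.mem_support, not_not]; exact hκe⟩
    rw [hA] at h1
    unfold Nat.ModEq at hmod
    omega
  obtain ⟨z₁, hz1, hzs, -⟩ := IsPerm.coord hκ i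
  rw [hκ'] at hzs
  have hzone : z₁ = 1 := by
    have e1 : S.img (k * (k * k)) (Pi.single i 1) = (z₁ * (z₁ * z₁)) • Pi.single i 1 := by
      rw [S.img_mul k (k * k), S.img_mul k k, hzs, S.img_smul, hzs, smul_smul, S.img_smul, hzs, smul_smul]
      congr 1
      ring
    rw [hk3, img_one, hz1, mul_one] at e1
    simpa using (congrFun e1 i).symm
  rw [hzone, one_smul, hk] at hzs
  set z := S.img g (Pi.single i 1) with hzdef
  have hsz : S.img s z = z := by
    have := congrArg (S.img g) hzs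
    rwa [img_mul, img_mul, img_img_inv] at this
  have habc := hszero z hsz
  have hiA : i ∉ A := Finset.mem_compl.1 hiU
  have hzd := hsq hcd' z (Or.inl (hpos i hiA))
  have hzb' : z c = 0 → z d = 0 := fun hc0 => mul_self_eq_zero.1 (by rw [hzd, hc0, mul_zero])
  have hzc' : z d = 0 → z c = 0 := fun hd0 => mul_self_eq_zero.1 (by rw [← hzd, hd0, mul_zero])
  -- it is fixed by one of the two
  have hor : r1 i = i ∨ r2 i = i := by
    by_contra h0
    push Not at h0
    have hF : ∀ {ψ : Equiv.Perm (Fin n)} {s₁ s₂ s₃ s₄ : Fin n},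
        (s₁ ≠ s₂ ∧ s₁ ≠ s₃ ∧ s₁ ≠ s₄ ∧ s₂ ≠ s₃ ∧ s₂ ≠ s₄ ∧ s₃ ≠ s₄) →
        (∀ j, ψ j = j ↔ j ∉ ({s₁, s₂, s₃, s₄} : Finset (Fin n))) →
        (Finset.univ.filter fun j => ψ j = j).card = 2 := fun {ψ s₁ s₂ s₃ s₄} hh hf => by
      rw [show (Finset.univ.filter fun j => ψ j = j) = ({s₁, s₂, s₃, s₄} : Finset (Fin n))ᶜ by ext j; simp [hf j],
        Finset.card_compl, Fintype.card_fin]
      obtain ⟨q1, q2, q3, q4, q5, q6⟩ := hh
      simp [q1, q2, q3, q4, q5, q6, hn]
    have hr2e : r2 e ≠ e := fun h2 => hef (by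
      have h3 := Equiv.congr_fun hmul e
      rw [Equiv.Perm.mul_apply, h2, hr1e, hr0A e heA] at h3
      exact h3.symm)
    have hr1f' : r1 f ≠ f := fun h2 => hef (r1.injective (hr1e.trans h2.symm))
    have hr2f' : r2 f ≠ f := fun h2 => hr1f' (by
      have h3 := Equiv.congr_fun hmul f
      rwa [Equiv.Perm.mul_apply, h2, hr0A f hfA] at h3)
    have hsub : (Finset.univ.filter fun j => r1 j = j) ∪ (Finset.univ.filter fun j => r2 j = j) ⊆ U.erase i := by
      intro j hj
      simp at hj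
      rw [Finset.mem_erase, hU, Finset.mem_compl, hAef]
      simp only [Finset.mem_insert, Finset.mem_singleton, not_or]
      refine ⟨fun e1 => hj.elim (e1 ▸ h0.1) (e1 ▸ h0.2), fun e1 => ?_, fun e1 => ?_⟩ <;> subst e1
      · exact hj.elim (fun h2 => hef (h2.symm.trans hr1e)) hr2e
      · exact hj.elim hr1f' hr2f'
    have hdis : Disjoint (Finset.univ.filter fun j => r1 j = j) (Finset.univ.filter fun j => r2 j = j) := by
      rw [Finset.disjoint_left]
      intro j hj1 hj2
      have hjU : j ∈ U := Finset.mem_of_mem_erase (hsub (Finset.mem_union_left _ hj1))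
      simp at hj1 hj2
      refine hr0U j hjU ?_
      rw [← hmul, Equiv.Perm.mul_apply, hj2, hj1]
    have := Finset.card_le_card hsub
    rw [Finset.card_union_of_disjoint hdis, hF hv hr1f, hF hw hr2f, Finset.card_erase_of_mem hiU, hUc] at this
    omega
  have hzK : ∀ j ∈ K, z j = 0 := by
    have hall : z a = 0 ∧ z b = 0 ∧ z c = 0 ∧ z d = 0 := by
      rcases hor with h0 | h0
      · have e1 := congrArg (S.img g) (hr1p i h0)
        rw [img_mul, img_mul, img_img_inv, S.img_eps_eq_self] at e1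
        have hb0 := e1 b (by simp)
        exact ⟨e1 a (by simp), hb0, habc.2.1 hb0, hzb' (habc.2.1 hb0)⟩
      · have e1 := congrArg (S.img g) (hr2p i h0)
        rw [img_mul, img_mul, img_img_inv, S.img_eps_eq_self] at e1
        have hc0 := e1 c (by simp)
        exact ⟨habc.1.2 (habc.2.2 hc0), habc.2.2 hc0, hc0, e1 d (by simp)⟩
    intro j hj
    simp [hK] at hj
    rcases hj with rfl | rfl | rfl | rfl
    exacts [hall.1, hall.2.1, hall.2.2.1, hall.2.2.2]
  have hmi : S.img (g⁻¹ * S.eps {a', b'} * g) (Pi.single i 1) = -Pi.single i 1 := by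
    rw [img_mul, img_mul, S.img_eps_eq_neg.2 fun j hj => hzK j (by
      by_contra hjK
      exact hj (hKe ▸ Finset.mem_compl.2 hjK)), img_neg, img_inv_img]
  obtain ⟨t', -, ht', -⟩ := hr0.coord i
  rw [hmi] at ht'
  have := congrFun ht' i
  simp [Ne.symm (hr0U i hiU)] at this

/-- the conjugating element of a monomial conjugate of a sign change is monomial -/
theorem conj_mon_six {g : Iso} (hg : g ∈ S.M) {A : Finset (Fin n)} (hA : A.card = 2 ∨ A.card = 4)
    (hx : S.Mon (g * S.eps A * g⁻¹)) : S.Mon g := by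
  rcases hA with hA | hA
  · exact conj_mon_two hn hs hM hg hA hx
  · refine conj_mon_two hn hs hM hg (A := Aᶜ) (by rw [Finset.card_compl, Fintype.card_fin, hA, hn]) ?_
    rw [eps_compl, show g * (S.eps Finset.univ * S.eps A) * g⁻¹ = g * S.eps Finset.univ * g⁻¹ * (g * S.eps A * g⁻¹)
      by group, eps_univ_comm, mul_inv_cancel_right]
    exact (S.eps_mon _).mul hx

end Setup

end Cfsg.Agent.Forms.Max.UnitFrame
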